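import Cfsg.Agent.H989.Cyc.NonAb

/-!
# Primitive groups with a non-abelian minimal normal subgroup (helper989, TEAM TWOCYC, S3507)

`nonabelian_type` : `G` primitive with an element with two cycles and a non-abelian minimal normal subgroup `N`. Then
the rank is at most `3`, or `N` is simple with trivial centralizer.
-/

set_option autoImplicit false

namespace Cfsg.Agent.H989.Cyc

open MulAction Subgroup Cfsg.Agent.H384.Cyc Cfsg.Agent.H124.OSCoord
open Cfsg.Agent.PermutationGroups.TwoTransitiveNormal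
open scoped Pointwise

universe u v w

variable {G : Type u} [Group G] {Ω : Type v} [MulAction G Ω]

theorem card_alt5 {T : Type u} [Group T] (f : T ≃* alternatingGroup (Fin 5)) : Nat.card T = 60 := by
  rw [Nat.card_congr f.toEquiv]
  have h2 : 2 * Nat.card (alternatingGroup (Fin 5)) = 120 := by
    rw [Nat.card_eq_fintype_card, two_mul_card_alternatingGroup, Fintype.card_perm, Fintype.card_fin]
    rfl
  omega

/-- a regular group centralised by a regular group -/
theorem centralizer_le_of_regular [FaithfulSMul G Ω] {A B : Subgroup G} (α : Ω)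
    (hA : ∀ ω : Ω, ∃ n ∈ A, n • α = ω) (hB : ∀ ω : Ω, ∃ n ∈ B, n • α = ω) (hAB : ∀ a ∈ A, ∀ b ∈ B, Commute a b) :
    centralizer (A : Set G) ≤ B := by
  intro x hx
  obtain ⟨b, hb, hb'⟩ := hB (x • α)
  have hA' : IsPretransitive A Ω := by
    refine ⟨fun p q => ?_⟩
    obtain ⟨a, ha, rfl⟩ := hA p
    obtain ⟨c, hc, rfl⟩ := hA q
    exact ⟨⟨c * a⁻¹, A.mul_mem hc (A.inv_mem ha)⟩, by
      change (c * a⁻¹) • a • α = c • α
      rw [smul_smul, inv_mul_cancel_right]⟩
  have h1 : b⁻¹ * x = 1 := by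
    refine eq_of_commute_of_transitive A (x := b⁻¹ * x) (fun a ha => ?_) (a := α) ?_
    · have h2 : Commute a (b⁻¹ * x) := ((hAB a ha b hb).inv_right).mul_right (mem_centralizer_iff.mp hx a ha)
      exact h2
    · rw [mul_smul, inv_smul_eq_iff, hb']
  rw [inv_mul_eq_one] at h1
  rw [← h1]
  exact hb

/-- the case of two factors `A₅`, degree `60` -/
theorem diag_five [Finite G] [Finite Ω] [FaithfulSMul G Ω] {N : Subgroup G} {T : Fin 2 → Subgroup G}
    {e : N ≃* (∀ i, T i)} (C : Coo N T e) (f : ∀ i, Nonempty (T i ≃* alternatingGroup (Fin 5))) (α : Ω)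
    (htr : ∀ ω : Ω, ∃ n ∈ N, n • α = ω) (hn : Nat.card Ω = 60) (hcard : Nat.card ↥(stabilizer G α ⊓ N) = 60)
    {g : G} (hg : 30 ≤ orderOf g) {o : Fin 2 → ℕ}
    (ho : ∀ i, 0 < o i ∧ o i ≤ 6 ∧ ∀ t ∈ T i, Commute (g ^ o i) t) : False := by
  obtain ⟨K, hK⟩ : ∃ K, K = stabilizer G α := ⟨_, rfl⟩
  rw [← hK] at hcard
  -- conjugation by an element of `K`
  obtain ⟨k, hk, hk'⟩ : ∃ k ∈ K, T 1 = (T 0).map (MulAut.conj k).toMonoidHom := by
    obtain ⟨x, hx⟩ := C.trans 0 1
    obtain ⟨n, hn, hn'⟩ := htr (x⁻¹ • α)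
    refine ⟨x * n, ?_, ?_⟩
    · rw [hK, mem_stabilizer_iff, mul_smul, hn', smul_inv_smul]
    · have h1 : (T 0).map (MulAut.conj n).toMonoidHom = T 0 := mem_normalizer_iff_map_conj_eq.mp (C.norm 0 hn)
      rw [← Cfsg.Agent.Lib.MinNormal.map_conj_map_conj, h1, hx]
  have hP : Nat.card ↥(K ⊓ T 1) = Nat.card ↥(K ⊓ T 0) := by
    have h1 : K ⊓ T 1 = (K ⊓ T 0).map (MulAut.conj k).toMonoidHom := by
      rw [hk', Subgroup.map_inf _ _ _ (MulAut.conj k).injective]
      congr 1
      exact (mem_normalizer_iff_map_conj_eq.mp (Subgroup.le_normalizer hk)).symm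
    rw [h1]
    exact (Nat.card_congr ((K ⊓ T 0).equivMapOfInjective _ (MulAut.conj k).injective).toEquiv).symm
  -- the projection of `K ⊓ N` to `T 1`
  let φ : ↥(K ⊓ N) →* T 1 := (Pi.evalMonoidHom (fun i => T i) 1).comp (e.toMonoidHom.comp (inclusion inf_le_right))
  have hφ : ∀ x : ↥(K ⊓ N), φ x = e ⟨x, x.2.2⟩ 1 := fun x => rfl
  have hker : φ.ker.map (K ⊓ N).subtype = K ⊓ T 0 := by
    ext x
    constructor
    · rintro ⟨y, hy, rfl⟩
      refine ⟨y.2.1, ?_⟩
      have h1 : e ⟨y, y.2.2⟩ = Pi.mulSingle 0 (e ⟨y, y.2.2⟩ 0) := by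
        funext i
        fin_cases i
        · simp
        · have h2 : φ y = 1 := hy
          rw [hφ] at h2
          simpa using h2
      have h2 : (⟨y, y.2.2⟩ : N) = e.symm (Pi.mulSingle 0 (e ⟨y, y.2.2⟩ 0)) := by
        rw [← h1, MulEquiv.symm_apply_apply]
      have h3 := congrArg (Subtype.val) h2
      rw [C.single] at h3
      change (y : G) ∈ T 0
      have h4 : (y : G) = ((e ⟨y, y.2.2⟩ 0 : T 0) : G) := h3
      rw [h4]
      exact (e ⟨y, y.2.2⟩ 0).2
    · rintro ⟨hx1, hx2⟩
      refine ⟨⟨x, hx1, C.le 0 hx2⟩, ?_, rfl⟩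
      change φ _ = 1
      rw [hφ]
      have h1 := coo_mem C 0 hx2
      change e ⟨x, C.le 0 hx2⟩ 1 = 1
      rw [h1]
      exact Pi.mulSingle_eq_of_ne (by decide) _
  have hkc : Nat.card φ.ker = Nat.card ↥(K ⊓ T 0) := by
    rw [← hker]
    exact Nat.card_congr (φ.ker.equivMapOfInjective _ (K ⊓ N).subtype_injective).toEquiv
  have h1 : Nat.card ↥(K ⊓ T 0) * Nat.card φ.range = 60 := by
    rw [← hkc, ← Subgroup.index_ker, Subgroup.card_mul_index, hcard]
  have hT1 : Nat.card (T 1) = 60 := card_alt5 (f 1).some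
  have h2 : Nat.card φ.range * φ.range.index = 60 := by
    rw [Subgroup.card_mul_index, hT1]
  have hr0 : 0 < Nat.card φ.range := Nat.card_pos
  have h3 : φ.range.index = Nat.card ↥(K ⊓ T 0) := by
    apply Nat.eq_of_mul_eq_mul_left hr0
    rw [h2, ← h1, mul_comm]
  -- `K ⊓ T 1` is in the image
  have h4 : Nat.card ↥(K ⊓ T 1) ∣ Nat.card φ.range := by
    have h5 : K ⊓ T 1 ≤ φ.range.map (T 1).subtype := by
      rintro x ⟨hx1, hx2⟩
      refine ⟨⟨x, hx2⟩, ⟨⟨x, hx1, C.le 1 hx2⟩, ?_⟩, rfl⟩
      rw [hφ]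
      change e ⟨x, C.le 1 hx2⟩ 1 = _
      rw [coo_mem C 1 hx2, Pi.mulSingle_eq_same]
    have h6 := Subgroup.card_dvd_of_le h5
    rwa [← Nat.card_congr (φ.range.equivMapOfInjective _ (T 1).subtype_injective).toEquiv] at h6
  rw [hP] at h4
  obtain ⟨p, hp⟩ : ∃ p, p = Nat.card ↥(K ⊓ T 0) := ⟨_, rfl⟩
  rw [← hp] at h1 h3 h4
  have hp1 : p = 1 := by
    by_contra hne
    have hs := C.simple 1
    have h5 : 5 ≤ φ.range.index := Cfsg.Agent.SmallSimple.Embed.five_le_index (coo_na C 1) φ.range (by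
      intro h
      rw [h, index_top] at h3
      exact hne h3.symm)
    rw [h3] at h5
    obtain ⟨c, hc⟩ := h4
    rw [hc] at h1
    have h6 : p * p * c = 60 := by rw [mul_assoc, h1]
    have h7 : p ≤ 7 := by
      by_contra h8
      push Not at h8
      have : 1 ≤ c := by
        rcases Nat.eq_zero_or_pos c with h | h
        · rw [h] at h6; omega
        · exact h
      nlinarith
    interval_cases p <;> omega
  -- regularity
  have hK0 : K ⊓ T 0 = ⊥ := by
    rw [← Subgroup.card_eq_one, ← hp, hp1]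
  have hK1 : K ⊓ T 1 = ⊥ := by
    rw [← Subgroup.card_eq_one, hP, ← hp, hp1]
  have hreg : ∀ i, K ⊓ T i = ⊥ := by
    intro i
    fin_cases i
    · exact hK0
    · exact hK1
  have htrT : ∀ i, ∀ ω : Ω, ∃ n ∈ T i, n • α = ω := by
    intro i
    have h5 : Function.Injective (fun n : T i => (n : G) • α) := by
      intro a b hab
      have h6 : (b : G)⁻¹ * a ∈ K ⊓ T i := by
        have h7 : (b : G)⁻¹ * a ∈ K := by
          rw [hK, mem_stabilizer_iff, mul_smul, inv_smul_eq_iff]
          exact hab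
        exact ⟨h7, (T i).mul_mem ((T i).inv_mem b.2) a.2⟩
      rw [hreg i, mem_bot, inv_mul_eq_one] at h6
      exact Subtype.ext h6.symm
    have h6 : Function.Bijective (fun n : T i => (n : G) • α) := by
      rw [Nat.bijective_iff_injective_and_card]
      exact ⟨h5, by rw [hn, card_alt5 (f i).some]⟩
    intro ω
    obtain ⟨n, hn⟩ := h6.2 ω
    exact ⟨n, n.2, hn⟩
  have hcomm : ∀ a ∈ T 0, ∀ b ∈ T 1, Commute a b := by
    intro a ha b hb
    have h5 : e ⟨a, C.le 0 ha⟩ 1 = 1 := by
      rw [coo_mem C 0 ha]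
      exact Pi.mulSingle_eq_of_ne (by decide) _
    rw [C.coord] at h5
    exact h5 b hb
  refine special_sixty (f 0).some (f 1).some (centralizer_le_of_regular α (htrT 0) (htrT 1) hcomm)
    (centralizer_le_of_regular α (htrT 1) (htrT 0) (fun a ha b hb => (hcomm b hb a ha).symm)) ?_ hg
    (ho 0).1 (ho 0).2.1 (ho 1).1 (ho 1).2.1 ?_ ?_
  · intro x hx hx'
    refine C.factor_center 1 hx fun y hy => ?_
    rw [mul_inv_eq_iff_eq_mul]
    exact (mem_centralizer_iff.mp hx' y hy).symm
  · rw [mem_centralizer_iff]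
    intro x hx
    exact ((ho 0).2.2 x hx).symm
  · rw [mem_centralizer_iff]
    intro x hx
    exact ((ho 1).2.2 x hx).symm

/-- **Primitive groups with an element with two cycles and a non-abelian minimal normal subgroup.** -/
theorem nonabelian_type [Finite G] [Finite Ω] [FaithfulSMul G Ω] [IsPreprimitive G Ω] {g : G} (hg : Two Ω g)
    (N : Subgroup G) [hN : N.Normal] (hmin : ∀ M : Subgroup G, M.Normal → M ≤ N → M = ⊥ ∨ M = N)
    (hna : ¬ ∀ x ∈ N, ∀ y ∈ N, Commute x y)
    (hOrd : ∀ S : Subgroup G, IsSimpleGroup S → ¬ IsMulCommutative S → Ord S ∨ Nonempty (S ≃* alternatingGroup (Fin 5))) :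
    rk G Ω ≤ 3 ∨ (IsSimpleGroup N ∧ ¬ IsMulCommutative N ∧ centralizer (N : Set G) = ⊥) := by
  have hNbot : N ≠ ⊥ := by
    rintro rfl
    apply hna
    intro x hx y hy
    rw [mem_bot] at hx
    rw [hx]
    exact Commute.one_left y
  have hnt : Nontrivial Ω := by
    by_contra hcon
    rw [not_nontrivial_iff_subsingleton] at hcon
    apply hNbot
    rw [eq_bot_iff]
    intro x _
    rw [mem_bot]
    exact FaithfulSMul.eq_of_smul_eq_smul (α := Ω) fun a => Subsingleton.elim _ _
  have hNne : ¬ IsMulCommutative N := fun h =>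
    hna fun x hx y hy => congrArg Subtype.val (h.is_comm.comm (⟨x, hx⟩ : N) ⟨y, hy⟩)
  obtain ⟨α⟩ := hnt.to_nonempty
  have htrans : ∀ M : Subgroup G, M.Normal → M ≠ ⊥ → ∀ ω : Ω, ∃ n ∈ M, n • α = ω := by
    intro M hM hM' ω
    have h1 : IsPretransitive M Ω := isPretransitive_of_normal_of_ne_bot M hM'
    obtain ⟨n, hn⟩ := h1.exists_smul_eq α ω
    exact ⟨n, n.2, hn⟩
  have hNtr := htrans N hN hNbot
  obtain ⟨m, T, e, C⟩ := exists_coo N hmin hna
  have hn2 := card_le_two_mul hg
  have hnpos : 0 < Nat.card Ω := Nat.card_pos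
  let i₀ : Fin m := ⟨0, C.hm⟩
  have h60 : 60 ≤ Nat.card (T i₀) := sixty_le' (C.simple i₀) (coo_na C i₀)
  by_cases hcen : centralizer (N : Set G) = ⊥
  · by_cases hm1 : m = 1
    · right
      refine ⟨?_, hNne, hcen⟩
      have := C.simple i₀
      exact (MulEquiv.isSimpleGroup_congr (coo_one C hm1 i₀).some).mpr this
    left
    have hm2 : 2 ≤ m := by
      have := C.hm
      omega
    rcases C.dichotomy (stabilizer G α)
      (by
        intro x
        obtain ⟨n, hn, hn'⟩ := hNtr (x⁻¹ • α)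
        exact ⟨n, hn, by rw [mem_stabilizer_iff, mul_smul, hn', smul_inv_smul]⟩)
      (by
        intro h
        obtain ⟨β, hβ⟩ := exists_ne α
        obtain ⟨n, hn, hn'⟩ := hNtr β
        exact hβ (hn'.symm.trans (h hn)))
      (hmax_of_primitive N α) with ⟨P, hP1, hP2, hP3⟩ | ⟨l, hl, hl'⟩
    · -- product action
      obtain ⟨E, hE⟩ := coo_ps hN C α (fun ω => by
        obtain ⟨n, hn, hn'⟩ := hNtr ω
        exact ⟨⟨n, hn⟩, hn'⟩) P hP2 hP3 i₀
      have hs := C.simple i₀
      have h5 : 5 ≤ (P i₀).index := Cfsg.Agent.SmallSimple.Embed.five_le_index (coo_na C i₀) (P i₀) (hP1 i₀)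
      exact hE.rk_le_three inferInstance h5 hg (i := i₀) (j := ⟨1, by omega⟩) (by
        intro h
        have := congrArg Fin.val h
        simp [i₀] at this)
    · -- diagonal types
      exfalso
      -- the degree
      have hdeg : Nat.card Ω * Nat.card (T i₀) ^ l = Nat.card (T i₀) ^ m := by
        have h1 : Nat.card (stabilizer N α) = Nat.card ↥(stabilizer G α ⊓ N) := by
          have h2 : (stabilizer N α).map N.subtype = stabilizer G α ⊓ N := by
            ext x
            constructor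
            · rintro ⟨y, hy, rfl⟩
              exact ⟨hy, y.2⟩
            · rintro ⟨h1, h2⟩
              exact ⟨⟨x, h2⟩, h1, rfl⟩
          rw [← h2]
          exact Nat.card_congr ((stabilizer N α).equivMapOfInjective _ N.subtype_injective).toEquiv
        have h2 : (stabilizer N α).index = Nat.card Ω := by
          have : IsPretransitive N Ω := isPretransitive_of_normal_of_ne_bot N hNbot
          exact index_stabilizer_of_transitive N α
        rw [← hl' i₀, ← h1, ← h2, Subgroup.index_mul_card, coo_card C i₀]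
      have ht0 : 0 < Nat.card (T i₀) := Nat.card_pos
      have hsq : Nat.card N ≤ Nat.card Ω ^ 2 := by
        rw [coo_card C i₀]
        have h1 : (Nat.card (T i₀)) ^ (2 * l) ≤ Nat.card (T i₀) ^ m := Nat.pow_le_pow_right ht0 hl
        have h2 : (Nat.card (T i₀)) ^ (2 * l) = (Nat.card (T i₀) ^ l) ^ 2 := by rw [mul_comm, pow_mul]
        rw [h2] at h1
        have h3 : (Nat.card Ω) ^ 2 * (Nat.card (T i₀) ^ l) ^ 2 = Nat.card (T i₀) ^ m * Nat.card (T i₀) ^ m := by
          rw [← mul_pow, hdeg, sq]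
        have h4 : 0 < Nat.card (T i₀) ^ m := by positivity
        have h5 : Nat.card (T i₀) ^ m * Nat.card (T i₀) ^ m ≤ (Nat.card Ω) ^ 2 * Nat.card (T i₀) ^ m := by
          rw [← h3]
          exact Nat.mul_le_mul_left _ h1
        exact Nat.le_of_mul_le_mul_right h5 h4
      have hK : ∀ K : ℕ, 0 < K → g ^ K ∈ centralizer (N : Set G) → Nat.card Ω ≤ 2 * K := by
        intro K hK hgK
        rw [hcen, mem_bot] at hgK
        have := orderOf_le_of_pow_eq_one hK hgK
        omega
      rcases coo_all C hOrd g with ⟨K, h1, h2, -, h3⟩ | ⟨h1, -⟩ | ⟨h1, h2, ⟨K, h3, h4, h5⟩, o, ho⟩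
      · have h4 := h3 hm2
        have h5 := hK K h1 h2
        have h6 : Nat.card Ω ^ 2 ≤ (2 * K) ^ 2 := Nat.pow_le_pow_left h5 2
        have h7 : (2 * K) ^ 2 = 4 * K ^ 2 := by ring
        omega
      · exact hm1 h1
      · have h6 := hK K h3 h4
        have h7 : Nat.card Ω ^ 2 ≤ (2 * K) ^ 2 := Nat.pow_le_pow_left h6 2
        have h8 : (2 * K) ^ 2 = 4 * K ^ 2 := by ring
        have ht60 : Nat.card (T i₀) = 60 := card_alt5 (h2 i₀).some
        have hN3600 : Nat.card N = 3600 := by
          rw [coo_card C i₀, ht60, h1]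
          norm_num
        have hΩ : Nat.card Ω = 60 := by
          have h9 : Nat.card Ω ^ 2 = 60 ^ 2 := by
            rw [show (60 : ℕ) ^ 2 = 3600 by norm_num]
            omega
          exact Nat.pow_left_injective (n := 2) (by norm_num) h9
        have hl1 : Nat.card (T i₀) ^ l = 60 := by
          rw [hΩ, h1, ht60] at hdeg
          rw [ht60]
          have : 60 * 60 ^ l = 60 * 60 := by rw [hdeg]; norm_num
          exact Nat.eq_of_mul_eq_mul_left (by norm_num) this
        have hcard : Nat.card ↥(stabilizer G α ⊓ N) = 60 := by rw [hl' i₀, hl1]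
        subst h1
        exact diag_five C h2 α hNtr hΩ hcard (by omega) ho
  · -- the centralizer is not trivial
    exfalso
    obtain ⟨N', hN'⟩ : ∃ N', N' = centralizer (N : Set G) := ⟨_, rfl⟩
    rw [← hN'] at hcen
    have hN'n : N'.Normal := by rw [hN']; infer_instance
    have hN'tr := htrans N' hN'n hcen
    have hcomm : ∀ a ∈ N, ∀ b ∈ N', Commute a b := by
      intro a ha b hb
      rw [hN'] at hb
      exact mem_centralizer_iff.mp hb a ha
    have hcenN' : centralizer (N' : Set G) ≤ N :=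
      centralizer_le_of_regular α hN'tr hNtr (fun a ha b hb => (hcomm b hb a ha).symm)
    have hNreg : ∀ n ∈ N, n • α = α → n = 1 := by
      intro n hn h
      have h1 : IsPretransitive N' Ω := isPretransitive_of_normal_of_ne_bot N' hcen
      exact eq_of_commute_of_transitive N' (fun a ha => (hcomm n hn a ha).symm) h
    have hN'reg : ∀ n ∈ N', n • α = α → n = 1 := by
      intro n hn h
      have h1 : IsPretransitive N Ω := isPretransitive_of_normal_of_ne_bot N hNbot
      exact eq_of_commute_of_transitive N (fun a ha => hcomm a ha n hn) h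
    have hcN : Nat.card N = Nat.card Ω := card_regular N α hNtr hNreg
    have hcN' : Nat.card N' = Nat.card Ω := card_regular N' α hN'tr hN'reg
    have hmin' : ∀ M : Subgroup G, M.Normal → M ≤ N' → M = ⊥ ∨ M = N' := by
      intro M hM hMN'
      by_cases h : M = ⊥
      · exact Or.inl h
      · right
        have h1 := card_regular M α (htrans M hM h) (fun n hn => hN'reg n (hMN' hn))
        exact Subgroup.eq_of_le_of_card_ge hMN' (by rw [h1, hcN'])
    have hna' : ¬ ∀ x ∈ N', ∀ y ∈ N', Commute x y := by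
      intro h
      have h1 : N' ≤ N := fun x hx => hcenN' (mem_centralizer_iff.mpr fun y hy => h y hy x hx)
      have h2 : N' = N := Subgroup.eq_of_le_of_card_ge h1 (by rw [hcN, hcN'])
      rw [h2] at h
      exact hna h
    obtain ⟨m', T', e', C'⟩ := exists_coo N' hmin' hna'
    let i₁ : Fin m' := ⟨0, C'.hm⟩
    have h60' : 60 ≤ Nat.card (T' i₁) := sixty_le' (C'.simple i₁) (coo_na C' i₁)
    have hinter : ∀ x, x ∈ centralizer (N : Set G) → x ∈ centralizer (N' : Set G) → x = 1 := by
      intro x hx hx'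
      rw [← hN'] at hx
      exact center_eq_one C' hx hx'
    by_cases hΩ : Nat.card Ω = 60
    · -- two groups `A₅`
      have key : ∀ (M : Subgroup G) (k : ℕ) (S : Fin k → Subgroup G) (f : M ≃* (∀ i, S i)) (i : Fin k),
          Coo M S f → 60 ≤ Nat.card (S i) → Nat.card M = 60 → Nonempty (M ≃* alternatingGroup (Fin 5)) := by
        intro M k S f i D h1 h2
        have h3 : k = 1 := by
          by_contra hk
          have h4 : 2 ≤ k := by
            have := D.hm
            omega
          rw [coo_card D i] at h2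
          have h5 : 60 ^ 2 ≤ 60 ^ k := Nat.pow_le_pow_right (by norm_num) h4
          have h6 : 60 ^ k ≤ Nat.card (S i) ^ k := Nat.pow_le_pow_left h1 k
          omega
        have h4 := D.simple i
        have h5 : IsSimpleGroup M := (MulEquiv.isSimpleGroup_congr (coo_one D h3 i).some).mpr h4
        exact Cfsg.Agent.S0494.result h2
      obtain ⟨f₁⟩ := key N m T e i₀ C h60 (by rw [hcN, hΩ])
      obtain ⟨f₂⟩ := key N' m' T' e' i₁ C' h60' (by rw [hcN', hΩ])
      obtain ⟨a, ha, ha', hga⟩ := aut_order (x := g) (mo_of_equiv f₁)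
        (mem_normalizer_iff_map_conj_eq.mp (by rw [normalizer_eq_top]; trivial)).symm
      obtain ⟨b, hb, hb', hgb⟩ := aut_order (x := g) (mo_of_equiv f₂)
        (mem_normalizer_iff_map_conj_eq.mp (by rw [normalizer_eq_top]; trivial)).symm
      refine special_sixty (g := g) f₁ f₂ hN'.ge hcenN' (fun x hx hx' => hinter x (by rw [← hN']; exact hx) hx') (by omega)
        ha ha' hb hb' ?_ ?_
      · rw [mem_centralizer_iff]
        intro x hx
        exact (hga x hx).symm
      · rw [mem_centralizer_iff]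
        intro x hx
        exact (hgb x hx).symm
    · -- orders
      have key : ∀ (M : Subgroup G) (k : ℕ) (S : Fin k → Subgroup G) (f : M ≃* (∀ i, S i)),
          Coo M S f → Nat.card M = Nat.card Ω →
          ∃ K, 0 < K ∧ g ^ K ∈ centralizer (M : Set G) ∧ 2 * K ^ 2 < Nat.card Ω := by
        intro M k S f D h1
        rcases coo_all D hOrd g with ⟨K, k1, k2, k3, -⟩ | ⟨k1, k2⟩ | ⟨k1, k2, ⟨K, k3, k4, k5⟩, -⟩
        · exact ⟨K, k1, k2, by rw [← h1]; exact k3⟩
        · exfalso
          apply hΩ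
          let j : Fin k := ⟨0, D.hm⟩
          rw [← h1, coo_card D j, card_alt5 (k2 j).some, k1, pow_one]
        · refine ⟨K, k3, k4, ?_⟩
          rw [h1] at k5
          have : 0 < K ^ 2 := by positivity
          omega
      obtain ⟨K, k1, k2, k3⟩ := key N m T e C hcN
      obtain ⟨K', l1, l2, l3⟩ := key N' m' T' e' C' hcN'
      have h1 : g ^ (K * K') = 1 := by
        apply hinter
        · rw [pow_mul]
          exact Subgroup.pow_mem _ k2 _
        · rw [mul_comm, pow_mul]
          exact Subgroup.pow_mem _ l2 _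
      have h2 := orderOf_le_of_pow_eq_one (Nat.mul_pos k1 l1) h1
      have h3 : Nat.card Ω ≤ 2 * (K * K') := by omega
      have h4 : Nat.card Ω ^ 2 ≤ (2 * (K * K')) ^ 2 := Nat.pow_le_pow_left h3 2
      have h5 : (2 * (K * K')) ^ 2 = (2 * K ^ 2) * (2 * K' ^ 2) := by ring
      have h6 : (2 * K ^ 2) * (2 * K' ^ 2) < Nat.card Ω * Nat.card Ω := by
        have : 0 < 2 * K ^ 2 := by positivity
        calc (2 * K ^ 2) * (2 * K' ^ 2) < (2 * K ^ 2) * Nat.card Ω := Nat.mul_lt_mul_of_pos_left l3 this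
          _ ≤ _ := Nat.mul_le_mul_right _ k3.le
      rw [sq] at h4
      omega

end Cfsg.Agent.H989.Cyc
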