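import Cfsg.Agent.H384.Cyc.Defs

/-!
# Elements with two cycles: counting lemmas (helper989, TEAM TWOCYC, S3507)

* `Two.pigeon`, `Two.reps` : among three points two are in the same cycle, there are two representatives;
* `Two.card_range_le` : a function with `F (g ^ k • a) = F a` has at most `2 k` values;
* `rk_le_three` : three representatives for the pairs.
-/

set_option autoImplicit false

namespace Cfsg.Agent.H989.Cyc

open MulAction Cfsg.Agent.H384.Cyc

universe u v w

section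
variable {G : Type u} {Ω : Type v} [Group G] [MulAction G Ω]

/-- in the same cycle -/
def Sc (g : G) (a b : Ω) : Prop := ∃ k : ℤ, g ^ k • a = b

theorem Sc.refl (g : G) (a : Ω) : Sc g a a := ⟨0, by simp⟩

theorem Sc.symm {g : G} {a b : Ω} (h : Sc g a b) : Sc g b a := by
  obtain ⟨k, rfl⟩ := h
  exact ⟨-k, by simp [smul_smul]⟩

theorem Sc.trans {g : G} {a b c : Ω} (h : Sc g a b) (h' : Sc g b c) : Sc g a c := by
  obtain ⟨k, rfl⟩ := h
  obtain ⟨l, rfl⟩ := h'
  exact ⟨l + k, by rw [zpow_add, mul_smul]⟩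

theorem sc_iff {g : G} {a b : Ω} : Sc g a b ↔ (orbitRel (Subgroup.zpowers g) Ω) b a := by
  rw [orbitRel_apply, mem_orbit_iff]
  constructor
  · rintro ⟨k, hk⟩
    exact ⟨⟨g ^ k, k, rfl⟩, hk⟩
  · rintro ⟨⟨_, k, rfl⟩, hk⟩
    exact ⟨k, hk⟩

theorem sc_iff' {g : G} {a b : Ω} : Sc g a b ↔
    (Quotient.mk'' a : orbitRel.Quotient (Subgroup.zpowers g) Ω) = Quotient.mk'' b := by
  rw [Quotient.eq'']
  exact ⟨fun h => sc_iff.mp h.symm, fun h => (sc_iff.mpr h).symm⟩

theorem Sc.invariant {g : G} {Z : Type w} {F : Ω → Z} (hF : ∀ a, F (g • a) = F a) {a b : Ω} (h : Sc g a b) :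
    F a = F b := by
  have h1 : ∀ (k : ℕ) a, F (g ^ k • a) = F a := by
    intro k
    induction k with
    | zero => intro a; simp
    | succ k ih => intro a; rw [pow_succ', mul_smul, hF, ih]
  obtain ⟨k, rfl⟩ := h
  obtain ⟨k, rfl | rfl⟩ := k.eq_nat_or_neg
  · rw [zpow_natCast, h1]
  · rw [zpow_neg, zpow_natCast, ← h1 k ((g ^ k)⁻¹ • a), smul_inv_smul]

/-- among three points two are in the same cycle -/
theorem Two.pigeon {g : G} (h : Two Ω g) (a b c : Ω) : Sc g a b ∨ Sc g a c ∨ Sc g b c := by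
  by_contra hcon
  push Not at hcon
  obtain ⟨h1, h2, h3⟩ := hcon
  rw [sc_iff'] at h1 h2 h3
  have hfin : Finite (orbitRel.Quotient (Subgroup.zpowers g) Ω) :=
    Nat.finite_of_card_ne_zero (by rw [h]; norm_num)
  have h4 : Function.Injective (![Quotient.mk'' a, Quotient.mk'' b, Quotient.mk'' c] :
      Fin 3 → orbitRel.Quotient (Subgroup.zpowers g) Ω) := by
    intro i j hij
    fin_cases i <;> fin_cases j <;> simp_all
  have h5 := Nat.card_le_card_of_injective _ h4
  rw [h, Nat.card_eq_fintype_card, Fintype.card_fin] at h5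
  omega

/-- two representatives -/
theorem Two.reps {g : G} (h : Two Ω g) : ∃ a b : Ω, ∀ c, Sc g a c ∨ Sc g b c := by
  have hfin : Finite (orbitRel.Quotient (Subgroup.zpowers g) Ω) :=
    Nat.finite_of_card_ne_zero (by rw [h]; norm_num)
  obtain ⟨x, y, hxy⟩ : ∃ x y : orbitRel.Quotient (Subgroup.zpowers g) Ω, x ≠ y ∧ ∀ z, z = x ∨ z = y := by
    have h1 := h
    rw [Two, Nat.card_eq_two_iff] at h1
    obtain ⟨x, y, hxy, h2⟩ := h1
    refine ⟨x, y, hxy, fun z => ?_⟩
    have : z ∈ ({x, y} : Set _) := h2 ▸ Set.mem_univ z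
    simpa using this
  induction x using Quotient.inductionOn' with | _ a => ?_
  induction y using Quotient.inductionOn' with | _ b => ?_
  refine ⟨a, b, fun c => ?_⟩
  rw [sc_iff', sc_iff']
  rcases hxy.2 (Quotient.mk'' c) with h | h
  · exact Or.inl h.symm
  · exact Or.inr h.symm

/-- a function which is invariant under `g ^ k` has at most `2 k` values -/
theorem Two.card_range_le {g : G} (h : Two Ω g) {Z : Type w} (F : Ω → Z) (k : ℕ) (hk : 0 < k)
    (hF : ∀ a, F (g ^ k • a) = F a) : Nat.card (Set.range F) ≤ 2 * k := by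
  obtain ⟨a, b, hab⟩ := Two.reps h
  have key : ∀ a c, Sc g a c → ∃ j : Fin k, F c = F (g ^ (j : ℕ) • a) := by
    intro a c hac
    obtain ⟨l, rfl⟩ := hac
    have h1 : ∀ (q : ℤ) a, F ((g ^ k) ^ q • a) = F a := fun q a =>
      ((Sc.invariant (g := g ^ k) hF ⟨q, rfl⟩) : F a = _).symm
    refine ⟨⟨(l % k).toNat, ?_⟩, ?_⟩
    · have := Int.emod_lt_of_pos l (by exact_mod_cast hk : (0 : ℤ) < k)
      have := Int.emod_nonneg l (by exact_mod_cast hk.ne' : (k : ℤ) ≠ 0)
      omega
    · have h2 : (((l % k).toNat : ℕ) : ℤ) = l % k :=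
        Int.toNat_of_nonneg (Int.emod_nonneg l (by exact_mod_cast hk.ne' : (k : ℤ) ≠ 0))
      have h3 : g ^ l = (g ^ k) ^ (l / k) * g ^ (l % k).toNat := by
        rw [← zpow_natCast g k, ← zpow_mul, ← zpow_natCast g (l % k).toNat, h2, ← zpow_add,
          Int.mul_ediv_add_emod]
      change F (g ^ l • a) = F (g ^ (l % k).toNat • a)
      rw [h3, mul_smul, h1]
  let Φ : Bool × Fin k → Z := fun p => F (g ^ (p.2 : ℕ) • (if p.1 then a else b))
  have hsub : Set.range F ⊆ Set.range Φ := by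
    rintro _ ⟨c, rfl⟩
    rcases hab c with hc | hc
    · obtain ⟨j, hj⟩ := key a c hc
      exact ⟨(true, j), by simp [Φ, hj]⟩
    · obtain ⟨j, hj⟩ := key b c hc
      exact ⟨(false, j), by simp [Φ, hj]⟩
  calc Nat.card (Set.range F) ≤ Nat.card (Set.range Φ) := Nat.card_mono (Set.finite_range Φ) hsub
    _ ≤ Nat.card (Bool × Fin k) := Finite.card_range_le Φ
    _ = 2 * k := by simp [Nat.card_eq_fintype_card]

/-- three representatives for the pairs -/
theorem rk_le_three (p q r : Ω × Ω) (h : ∀ s : Ω × Ω, ∃ x : G, x • s = p ∨ x • s = q ∨ x • s = r) :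
    rk G Ω ≤ 3 := by
  have h1 : Function.Surjective (fun i : Fin 3 =>
      (Quotient.mk'' (![p, q, r] i) : orbitRel.Quotient G (Ω × Ω))) := by
    intro z
    induction z using Quotient.inductionOn' with | _ s => ?_
    obtain ⟨x, hx⟩ := h s
    rcases hx with hx | hx | hx
    · refine ⟨0, Quotient.sound' ?_⟩
      exact ⟨x, hx⟩
    · refine ⟨1, Quotient.sound' ?_⟩
      exact ⟨x, hx⟩
    · refine ⟨2, Quotient.sound' ?_⟩
      exact ⟨x, hx⟩
  have h2 := Nat.card_le_card_of_surjective _ h1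
  rwa [Nat.card_eq_fintype_card (α := Fin 3), Fintype.card_fin] at h2

end

end Cfsg.Agent.H989.Cyc
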