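import Cfsg.Agent.H989.Cyc.ProdRank
import Cfsg.Agent.H124.RegBase

/-!
# From the coordinates of a minimal normal subgroup to a product structure (helper989, TEAM TWOCYC, S3507)
-/

set_option autoImplicit false

namespace Cfsg.Agent.H989.Cyc

open MulAction Subgroup Cfsg.Agent.H384.Cyc Cfsg.Agent.H124.OSCoord

universe u v w

variable {G : Type u} [Group G] {N : Subgroup G} {m : ℕ} {T : Fin m → Subgroup G} {e : N ≃* (∀ i, T i)}

theorem coo_mem (C : Coo N T e) (i : Fin m) {t : G} (ht : t ∈ T i) :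
    e ⟨t, C.le i ht⟩ = Pi.mulSingle i ⟨t, ht⟩ := by
  rw [← MulEquiv.eq_symm_apply]
  apply Subtype.ext
  rw [C.single]

theorem coo_conj_mem (hN : N.Normal) (k : G) (y : N) : k * (y : G) * k⁻¹ ∈ N := hN.conj_mem _ y.2 k

/-- coordinates of a conjugate -/
theorem coo_conj (hN : N.Normal) (C : Coo N T e) {k : G} {i j : Fin m}
    (hij : T j = (T i).map (MulAut.conj k).toMonoidHom) (y : N) :
    ((e ⟨k * (y : G) * k⁻¹, coo_conj_mem hN k y⟩ j : T j) : G) = k * (e y i : G) * k⁻¹ := by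
  obtain ⟨t, ht⟩ : ∃ t : T i, t = e y i := ⟨_, rfl⟩
  let t' : N := ⟨t, C.le i t.2⟩
  have het : e t' = Pi.mulSingle i t := coo_mem C i t.2
  let y' : N := t'⁻¹ * y
  have hy' : e y' i = 1 := by
    change e (t'⁻¹ * y) i = 1
    rw [map_mul, map_inv, Pi.mul_apply, Pi.inv_apply, het, Pi.mulSingle_eq_same, ← ht, inv_mul_cancel]
  have hcom := (C.coord y' i).mp hy'
  have hktj : k * (t : G) * k⁻¹ ∈ T j := by
    rw [hij]
    exact ⟨t, t.2, rfl⟩
  have hy'' : e ⟨k * (y' : G) * k⁻¹, coo_conj_mem hN k y'⟩ j = 1 := by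
    rw [C.coord, hij]
    rintro _ ⟨s, hs, rfl⟩
    exact (hcom s hs).map (MulAut.conj k)
  have hsplit : (⟨k * (y : G) * k⁻¹, coo_conj_mem hN k y⟩ : N) =
      ⟨k * (t : G) * k⁻¹, C.le j hktj⟩ * ⟨k * (y' : G) * k⁻¹, coo_conj_mem hN k y'⟩ := by
    apply Subtype.ext
    change k * (y : G) * k⁻¹ = k * (t : G) * k⁻¹ * (k * ((t : G)⁻¹ * (y : G)) * k⁻¹)
    group
  rw [hsplit, map_mul, Pi.mul_apply, hy'', mul_one, coo_mem C j hktj, Pi.mulSingle_eq_same, ← ht]

/-- The product structure of a group of product action type. -/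
theorem coo_ps [Finite G] (hN : N.Normal) (C : Coo N T e) {Ω : Type v} [MulAction G Ω] (α : Ω)
    (htr : ∀ ω : Ω, ∃ n : N, (n : G) • α = ω) (P : ∀ i, Subgroup (T i))
    (hidx : ∀ i j, (P i).index = (P j).index)
    (hP : ∀ n : N, (n : G) ∈ stabilizer G α ↔ ∀ i, e n i ∈ P i) (i₀ : Fin m) :
    ∃ E : Fin m → Setoid Ω, PS G E (P i₀).index := by
  choose ν hν using htr
  let E : Fin m → Setoid Ω := fun i => Setoid.comap (fun ω => e (ν ω) i) (QuotientGroup.leftRel (P i))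
  have hE0 : ∀ i a b, E i a b ↔ (e (ν a) i)⁻¹ * e (ν b) i ∈ P i := by
    intro i a b
    change (QuotientGroup.leftRel (P i)) (e (ν a) i) (e (ν b) i) ↔ _
    rw [QuotientGroup.leftRel_apply]
  have hν' : ∀ (n : N) i, (e n i)⁻¹ * e (ν ((n : G) • α)) i ∈ P i := by
    intro n i
    have h1 : ((n⁻¹ * ν ((n : G) • α) : N) : G) ∈ stabilizer G α := by
      rw [mem_stabilizer_iff]
      change ((n : G)⁻¹ * (ν ((n : G) • α) : G)) • α = α
      rw [mul_smul, hν, inv_smul_smul]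
    have h2 := (hP _).mp h1 i
    rwa [map_mul, map_inv, Pi.mul_apply, Pi.inv_apply] at h2
  have hE : ∀ i (n n' : N), E i ((n : G) • α) ((n' : G) • α) ↔ (e n i)⁻¹ * e n' i ∈ P i := by
    intro i n n'
    rw [hE0]
    have h1 := hν' n i
    have h2 := hν' n' i
    have h3 : (e (ν ((n : G) • α)) i)⁻¹ * e (ν ((n' : G) • α)) i =
        ((e n i)⁻¹ * e (ν ((n : G) • α)) i)⁻¹ * ((e n i)⁻¹ * e n' i) * ((e n' i)⁻¹ * e (ν ((n' : G) • α)) i) := by
      group
    rw [h3, (P i).mul_mem_cancel_right h2, (P i).mul_mem_cancel_left ((P i).inv_mem h1)]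
  have hPK : ∀ i (t : T i), t ∈ P i ↔ (t : G) ∈ stabilizer G α := by
    intro i t
    have h1 := hP ⟨t, C.le i t.2⟩
    rw [coo_mem C i t.2] at h1
    rw [h1]
    constructor
    · intro h j
      by_cases hj : j = i
      · subst hj
        rwa [Pi.mulSingle_eq_same]
      · rw [Pi.mulSingle_eq_of_ne hj]
        exact (P j).one_mem
    · intro h
      have := h i
      rwa [Pi.mulSingle_eq_same] at this
  have perm : ∀ (x : G) (i j : Fin m), T j = (T i).map (MulAut.conj x).toMonoidHom → ∀ a b : Ω,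
      E i a b ↔ E j (x • a) (x • b) := by
    intro x i j hij a b
    obtain ⟨n₀, hn₀⟩ : ∃ n₀, n₀ = ν (x • α) := ⟨_, rfl⟩
    obtain ⟨k, hk⟩ : ∃ k, k = (n₀ : G)⁻¹ * x := ⟨_, rfl⟩
    have hkα : k • α = α := by rw [hk, mul_smul, inv_smul_eq_iff, hn₀, hν]
    have hx : x = n₀ * k := by rw [hk, mul_inv_cancel_left]
    obtain ⟨l, hl⟩ := C.conj k i
    have hjl : T j = (T i).map (MulAut.conj k).toMonoidHom := by
      rw [hij, hx, ← Cfsg.Agent.Lib.MinNormal.map_conj_map_conj, ← hl]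
      exact mem_normalizer_iff_map_conj_eq.mp (C.norm l n₀.2)
    have key : ∀ (n : N), x • (n : G) • α = ((n₀ * ⟨k * (n : G) * k⁻¹, coo_conj_mem hN k n⟩ : N) : G) • α := by
      intro n
      rw [hx, Subgroup.coe_mul]
      change ((n₀ : G) * k) • (n : G) • α = ((n₀ : G) * (k * (n : G) * k⁻¹)) • α
      have : ((n₀ : G) * (k * (n : G) * k⁻¹)) • α = ((n₀ : G) * k) • (n : G) • (k⁻¹ • α) := by
        simp [smul_smul, mul_assoc]
      rw [this, inv_smul_eq_iff.mpr hkα.symm]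
    rw [← hν a, ← hν b, key, key, hE, hE]
    have h1 : (e (n₀ * ⟨k * (ν a : G) * k⁻¹, coo_conj_mem hN k (ν a)⟩) j)⁻¹ *
        e (n₀ * ⟨k * (ν b : G) * k⁻¹, coo_conj_mem hN k (ν b)⟩) j =
        e ⟨k * (((ν a)⁻¹ * ν b : N) : G) * k⁻¹, coo_conj_mem hN k ((ν a)⁻¹ * ν b)⟩ j := by
      have h2 : (⟨k * (((ν a)⁻¹ * ν b : N) : G) * k⁻¹, coo_conj_mem hN k ((ν a)⁻¹ * ν b)⟩ : N) =
          (⟨k * (ν a : G) * k⁻¹, coo_conj_mem hN k (ν a)⟩)⁻¹ * ⟨k * (ν b : G) * k⁻¹, coo_conj_mem hN k (ν b)⟩ := by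
        apply Subtype.ext
        change k * ((ν a : G)⁻¹ * (ν b : G)) * k⁻¹ = (k * (ν a : G) * k⁻¹)⁻¹ * (k * (ν b : G) * k⁻¹)
        group
      rw [h2, map_mul, map_mul, map_mul, map_inv, Pi.mul_apply, Pi.mul_apply, Pi.mul_apply, Pi.inv_apply]
      group
    rw [h1, hPK j, coo_conj hN C hjl, map_mul, map_inv, Pi.mul_apply, Pi.inv_apply, hPK i]
    constructor
    · intro h
      exact (stabilizer G α).mul_mem ((stabilizer G α).mul_mem hkα h) ((stabilizer G α).inv_mem hkα)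
    · intro h
      have h3 := (stabilizer G α).mul_mem ((stabilizer G α).mul_mem ((stabilizer G α).inv_mem hkα) h) hkα
      have h4 : ∀ z : G, k⁻¹ * (k * z * k⁻¹) * k = z := fun z => by group
      rwa [h4] at h3
  refine ⟨E, ?_, ?_, ?_, ?_, ?_⟩
  · intro x i
    obtain ⟨j, hj⟩ := C.conj x i
    exact ⟨j, perm x i j hj⟩
  · intro i j
    obtain ⟨x, hx⟩ := C.trans i j
    exact ⟨x, perm x i j hx⟩
  · intro a b h
    have h1 : (((ν a)⁻¹ * ν b : N) : G) ∈ stabilizer G α := by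
      rw [hP]
      intro i
      rw [map_mul, map_inv, Pi.mul_apply, Pi.inv_apply]
      exact (hE0 i a b).mp (h i)
    rw [mem_stabilizer_iff] at h1
    change ((ν a : G)⁻¹ * (ν b : G)) • α = α at h1
    rw [mul_smul, hν, inv_smul_eq_iff, hν] at h1
    exact h1.symm
  · intro w
    refine ⟨((e.symm (fun i => e (ν (w i)) i) : N) : G) • α, fun i => ?_⟩
    have h1 := hE i (ν (w i)) (e.symm (fun i => e (ν (w i)) i))
    rw [hν, MulEquiv.apply_symm_apply, inv_mul_cancel] at h1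
    exact h1.mpr (P i).one_mem
  · intro i
    rw [hidx i₀ i, Subgroup.index]
    refine Nat.card_congr (Equiv.ofBijective (Quotient.lift
      (fun ω => (QuotientGroup.mk (e (ν ω) i) : T i ⧸ P i)) ?_) ⟨?_, ?_⟩)
    · intro a b hab
      exact QuotientGroup.eq.mpr ((hE0 i a b).mp hab)
    · rintro ⟨a⟩ ⟨b⟩ hab
      exact Quotient.sound ((hE0 i a b).mpr (QuotientGroup.eq.mp hab))
    · intro t
      obtain ⟨t, rfl⟩ := QuotientGroup.mk_surjective t
      refine ⟨Quotient.mk _ ((t : G) • α), ?_⟩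
      refine (QuotientGroup.eq.mpr ?_).symm
      have h1 := hν' ⟨t, C.le i t.2⟩ i
      rwa [coo_mem C i t.2, Pi.mulSingle_eq_same] at h1

end Cfsg.Agent.H989.Cyc
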