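import Cfsg.Agent.H989.Cyc.Sixty
import Cfsg.Agent.S0493
import Cfsg.Agent.S0494
import Cfsg.Agent.PermutationGroups.TwoTransitiveNormal
import Cfsg.Agent.SmallSimple.Embed

/-!
# Primitive groups with a non-abelian minimal normal subgroup (helper989, TEAM TWOCYC, S3507)

`nonabelian_type` : `G` primitive with an element with two cycles and a non-abelian minimal normal subgroup `N`. Then
the rank is at most `3`, or `N` is simple with trivial centralizer.
-/

set_option autoImplicit false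

namespace Cfsg.Agent.H989.Cyc

open MulAction Subgroup Cfsg.Agent.H384.Cyc Cfsg.Agent.H124.OSCoord
open Cfsg.Agent.PermutationGroups.TwoTransitiveNormal
open scoped Pointwise

universe u v w

section
variable {G : Type u} [Group G] {Ω : Type v} [MulAction G Ω]

theorem sixty_le' {S : Type u} [Group S] [Finite S] (hs : IsSimpleGroup S) (hG : ¬ IsMulCommutative S) :
    60 ≤ Nat.card S := by
  by_contra hcon
  have hc : ¬ IsCyclic S := by
    intro h
    exact hG h.isMulCommutative
  have := Cfsg.Agent.S0493.result hc (by omega)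
  omega

theorem card_le_two_mul [Finite G] [Finite Ω] {g : G} (hg : Two Ω g) : Nat.card Ω ≤ 2 * orderOf g := by
  have h1 := Two.card_range_le hg (id : Ω → Ω) (orderOf g) (orderOf_pos g) (fun a => by
    rw [pow_orderOf_eq_one, one_smul])
  rwa [Set.range_id, Nat.card_univ] at h1

/-- a regular subgroup -/
theorem card_regular [Finite Ω] (N : Subgroup G) (α : Ω) (htr : ∀ ω : Ω, ∃ n ∈ N, n • α = ω)
    (hreg : ∀ n ∈ N, n • α = α → n = 1) : Nat.card N = Nat.card Ω := by
  refine Nat.card_congr (Equiv.ofBijective (fun n : N => (n : G) • α) ⟨?_, ?_⟩)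
  · intro a b hab
    have h1 := hreg ((b : G)⁻¹ * a) (N.mul_mem (N.inv_mem b.2) a.2) (by
      rw [mul_smul, inv_smul_eq_iff]; exact hab)
    rw [inv_mul_eq_one] at h1
    exact Subtype.ext h1.symm
  · intro ω
    obtain ⟨n, hn, h⟩ := htr ω
    exact ⟨⟨n, hn⟩, h⟩

/-- the stabilizer in a transitive normal subgroup of a primitive group is a maximal invariant subgroup -/
theorem hmax_of_primitive [Nontrivial Ω] [IsPreprimitive G Ω] (N : Subgroup G) (α : Ω) :
    ∀ X ≤ N, stabilizer G α ⊓ N ≤ X → stabilizer G α ≤ normalizer (X : Set G) → X = stabilizer G α ⊓ N ∨ X = N := by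
  have hco : IsCoatom (stabilizer G α) := IsPreprimitive.isCoatom_stabilizer_of_isPreprimitive G α
  intro X hXN hKX hKn
  have h1 : (((stabilizer G α ⊔ X : Subgroup G)) : Set G) =
      (stabilizer G α : Set G) * (X : Set G) :=
    Subgroup.coe_mul_of_left_le_normalizer_right _ _ hKn
  rcases eq_or_lt_of_le (le_sup_left : stabilizer G α ≤ stabilizer G α ⊔ X) with h | h
  · left
    refine le_antisymm (le_inf ?_ hXN) hKX
    rw [h]
    exact le_sup_right
  · right
    have h2 := hco.2 _ h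
    refine le_antisymm hXN fun n hn => ?_
    have h3 : n ∈ ((stabilizer G α ⊔ X : Subgroup G) : Set G) := by
      rw [h2]; exact mem_top n
    rw [h1] at h3
    obtain ⟨s, hs1, x, hx, hsx⟩ := h3
    have hsx' : s * x = n := hsx
    have h4 : s ∈ stabilizer G α ⊓ N := by
      refine ⟨hs1, ?_⟩
      rw [eq_mul_inv_of_mul_eq hsx']
      exact N.mul_mem hn (N.inv_mem (hXN hx))
    rw [← hsx']
    exact X.mul_mem (hKX h4) hx

end

section
variable {G : Type u} [Group G] {N : Subgroup G} {m : ℕ} {T : Fin m → Subgroup G} {e : N ≃* (∀ i, T i)}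

theorem coo_na (C : Coo N T e) (i : Fin m) : ¬ IsMulCommutative (T i) := by
  intro h
  obtain ⟨a, b, hab⟩ := C.na i
  exact hab (h.is_comm.comm a b)

/-- all factors are isomorphic -/
theorem coo_equiv (C : Coo N T e) (i j : Fin m) : Nonempty (T i ≃* T j) := by
  obtain ⟨x, hx⟩ := C.trans i j
  exact ⟨((T i).equivMapOfInjective _ (MulAut.conj x).injective).trans (MulEquiv.subgroupCongr hx.symm)⟩

theorem coo_card [Finite G] (C : Coo N T e) (i : Fin m) : Nat.card N = Nat.card (T i) ^ m := by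
  rw [Nat.card_congr e.toEquiv, Nat.card_pi, Finset.prod_congr rfl (fun j _ =>
    Nat.card_congr (coo_equiv C j i).some.toEquiv), Finset.prod_const, Finset.card_univ, Fintype.card_fin]

/-- one factor -/
theorem coo_one (C : Coo N T e) (hm : m = 1) (i : Fin m) : Nonempty (N ≃* T i) := by
  subst hm
  have hi : i = 0 := Subsingleton.elim _ _
  subst hi
  exact ⟨e.trans (MulEquiv.piUnique (fun i => T i))⟩

theorem center_eq_one (C : Coo N T e) {x : G} (hx : x ∈ N) (h : x ∈ centralizer (N : Set G)) : x = 1 := by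
  have h1 : e ⟨x, hx⟩ = 1 := by
    funext i
    rw [Pi.one_apply, C.coord]
    intro t ht
    exact (mem_centralizer_iff.mp h t (C.le i ht)).symm
  rw [map_eq_one_iff e e.injective] at h1
  exact congrArg Subtype.val h1

/-- the bounds, in all cases -/
theorem coo_all [Finite G] (C : Coo N T e)
    (hOrd : ∀ S : Subgroup G, IsSimpleGroup S → ¬ IsMulCommutative S → Ord S ∨ Nonempty (S ≃* alternatingGroup (Fin 5)))
    (g : G) :
    (∃ K, 0 < K ∧ g ^ K ∈ centralizer (N : Set G) ∧ 2 * K ^ 2 < Nat.card N ∧ (2 ≤ m → 4 * K ^ 2 < Nat.card N)) ∨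
    (m = 1 ∧ (∀ i, Nonempty (T i ≃* alternatingGroup (Fin 5)))) ∨
    (m = 2 ∧ (∀ i, Nonempty (T i ≃* alternatingGroup (Fin 5))) ∧
      (∃ K, 0 < K ∧ g ^ K ∈ centralizer (N : Set G) ∧ 4 * K ^ 2 ≤ Nat.card N) ∧
      ∃ o : Fin m → ℕ, ∀ i, 0 < o i ∧ o i ≤ 6 ∧ ∀ t ∈ T i, Commute (g ^ o i) t) := by
  let i₀ : Fin m := ⟨0, C.hm⟩
  rcases hOrd (T i₀) (C.simple i₀) (coo_na C i₀) with ⟨μ, h1, h2⟩ | ⟨⟨f⟩⟩
  · left
    have hμ : ∀ i, Mo (T i) μ := fun i => h1.congr (coo_equiv C i₀ i).some
    have := C.simple i₀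
    obtain ⟨K, k1, k2, k3, k4⟩ := coo_ord C hμ h2 (sixty_le' (C.simple i₀) (coo_na C i₀)) g
    rw [← coo_card C i₀] at k3 k4
    exact ⟨K, k1, k2, k3, k4⟩
  · have hf : ∀ i, Nonempty (T i ≃* alternatingGroup (Fin 5)) := fun i => ⟨(coo_equiv C i i₀).some.trans f⟩
    have hμ : ∀ i, Mo (T i) 6 := fun i => mo_of_equiv (hf i).some
    have h60 : Nat.card (T i₀) = 60 := by
      rw [Nat.card_congr f.toEquiv]
      have h2 : 2 * Nat.card (alternatingGroup (Fin 5)) = 120 := by
        rw [Nat.card_eq_fintype_card, two_mul_card_alternatingGroup, Fintype.card_perm, Fintype.card_fin]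
        rfl
      omega
    have hN := coo_card C i₀
    rw [h60] at hN
    rw [hN]
    rcases coo_five C hμ g with ⟨K, k1, k2, k3⟩ | ⟨hm, -⟩ | ⟨hm, k1, k2⟩
    · exact Or.inl ⟨K, k1, k2, by omega, fun _ => k3⟩
    · exact Or.inr (Or.inl ⟨hm, hf⟩)
    · exact Or.inr (Or.inr ⟨hm, hf, k1, k2⟩)

end

end Cfsg.Agent.H989.Cyc
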