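import Cfsg.Agent.H989.Cyc.CooPS

/-!
# Orders modulo the centralizer of a minimal normal subgroup (helper989, TEAM TWOCYC, S3507)

* `coo_bound` : `μ ^ 2 < t = #(T i)`, `t ≥ 60`, all automorphisms of the `T i` have order `≤ μ`; then either `g`
  normalises all `T i` or `g ^ K` centralises `N` with `4 K ^ 2 < t ^ m`;
* `aut_order` : if `g` normalises `T i` then `g ^ o` centralises `T i` for some `0 < o ≤ μ`.
-/

set_option autoImplicit false

namespace Cfsg.Agent.H989.Cyc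

open MulAction Subgroup Cfsg.Agent.H384.Cyc Cfsg.Agent.H124.OSCoord

universe u v w

variable {G : Type u} [Group G]

theorem aut_order [Finite G] {T : Subgroup G} {μ : ℕ} (hμ : Mo T μ) {x : G}
    (hx : T = T.map (MulAut.conj x).toMonoidHom) : ∃ o, 0 < o ∧ o ≤ μ ∧ ∀ t ∈ T, Commute (x ^ o) t := by
  have hxn : x ∈ normalizer (T : Set G) := mem_normalizer_iff_map_conj_eq.mpr hx.symm
  let α : MulAut T := T.normalizerMonoidHom ⟨x, hxn⟩
  have hfin : Finite (MulAut T) := inferInstance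
  refine ⟨orderOf α, orderOf_pos α, hμ α, fun t ht => ?_⟩
  have h1 : T.normalizerMonoidHom (⟨x, hxn⟩ ^ orderOf α) = 1 := by
    rw [map_pow]
    exact pow_orderOf_eq_one α
  have h2 : ((T.normalizerMonoidHom (⟨x, hxn⟩ ^ orderOf α) ⟨t, ht⟩ : T) : G) =
      x ^ orderOf α * t * (x ^ orderOf α)⁻¹ := rfl
  rw [h1] at h2
  have h3 : t = x ^ orderOf α * t * (x ^ orderOf α)⁻¹ := h2
  have h4 : x ^ orderOf α * t = t * x ^ orderOf α := by
    calc x ^ orderOf α * t = x ^ orderOf α * t * (x ^ orderOf α)⁻¹ * x ^ orderOf α := by group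
      _ = t * x ^ orderOf α := by rw [← h3]
  exact h4

theorem four_sq_le (c : ℕ) : 4 * (c + 2) ^ 2 ≤ 60 ^ (c + 1) := by
  induction c with
  | zero => norm_num
  | succ c ih =>
    have h1 : 60 ^ (c + 1 + 1) = 60 ^ (c + 1) * 60 := pow_succ 60 (c + 1)
    have h2 : 4 * (c + 1 + 2) ^ 2 ≤ 4 * (c + 2) ^ 2 * 60 := by
      nlinarith [Nat.zero_le c]
    rw [h1]
    exact h2.trans (Nat.mul_le_mul_right 60 ih)

theorem arith_cycle {μ t c : ℕ} (h : μ ^ 2 < t) (ht : 60 ≤ t) (hc : 2 ≤ c) : 4 * (c * μ) ^ 2 < t ^ c := by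
  obtain ⟨c, rfl⟩ : ∃ k, c = k + 2 := ⟨c - 2, by omega⟩
  have h1 := four_sq_le c
  have h2 : 60 ^ (c + 1) ≤ t ^ (c + 1) := Nat.pow_le_pow_left ht _
  have h3 : 0 < 4 * (c + 2) ^ 2 := by positivity
  calc 4 * ((c + 2) * μ) ^ 2 = 4 * (c + 2) ^ 2 * μ ^ 2 := by ring
    _ < 4 * (c + 2) ^ 2 * t := Nat.mul_lt_mul_of_pos_left h h3
    _ ≤ t ^ (c + 1) * t := Nat.mul_le_mul_right t (h1.trans h2)
    _ = t ^ (c + 2) := by rw [← pow_succ]

variable {N : Subgroup G} {m : ℕ} {T : Fin m → Subgroup G} {e : N ≃* (∀ i, T i)}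

theorem coo_bound [Finite G] (C : Coo N T e) {μ t : ℕ} (hμ : ∀ i, Mo (T i) μ)
    (hμt : μ ^ 2 < t) (ht : 60 ≤ t) (g : G) :
    (∃ K, 0 < K ∧ g ^ K ∈ centralizer (N : Set G) ∧ 4 * K ^ 2 < t ^ m) ∨
      ∀ i, T i = (T i).map (MulAut.conj g).toMonoidHom := by
  classical
  obtain ⟨ρ, hρ⟩ := C.exists_perm
  by_cases hρ1 : ∀ i, ρ g i = i
  · right
    intro i
    rw [← hρ, hρ1]
  left
  push Not at hρ1
  obtain ⟨i₀, hi₀⟩ := hρ1
  let r : Setoid (Fin m) :=
    { r := Sc (ρ g)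
      iseqv := ⟨Sc.refl (ρ g), Sc.symm, Sc.trans⟩ }
  have hr : ∀ i j, (Quotient.mk r i = Quotient.mk r j) ↔ Sc (ρ g) i j := fun i j =>
    ⟨fun h => Quotient.exact h, fun h => Quotient.sound h⟩
  let cq : Quotient r → ℕ := fun q => Nat.card {j // Quotient.mk r j = q}
  have hsum : ∑ q, cq q = m := by
    rw [← Nat.card_sigma, Nat.card_congr (Equiv.sigmaFiberEquiv (Quotient.mk r)), Nat.card_eq_fintype_card,
      Fintype.card_fin]
  have hcqi : ∀ i, cq (Quotient.mk r i) = MulAction.period (ρ g) i := by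
    intro i
    rw [period_eq_ncard]
    change Nat.card {j // Quotient.mk r j = Quotient.mk r i} = _
    rw [← Nat.card_coe_set_eq]
    refine Nat.card_congr (Equiv.subtypeEquivRight fun j => ?_)
    rw [hr]
    exact ⟨Sc.symm, Sc.symm⟩
  have hcpos : ∀ q, 0 < cq q := by
    intro q
    obtain ⟨i, rfl⟩ := Quotient.exists_rep q
    have : Nonempty {j // Quotient.mk r j = Quotient.mk r i} := ⟨⟨i, rfl⟩⟩
    exact Nat.card_pos
  -- the exponents
  have hex : ∀ q : Quotient r, ∃ k, 0 < k ∧ k ≤ cq q * μ ∧ ∀ j, Quotient.mk r j = q → ∀ s ∈ T j, Commute (g ^ k) s := by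
    intro q
    obtain ⟨i, rfl⟩ := Quotient.exists_rep q
    have h1 : ρ (g ^ cq (Quotient.mk r i)) i = i := by
      have := (MulAction.pow_smul_eq_iff_period_dvd (m := ρ g) (a := i) (n := cq (Quotient.mk r i))).mpr
        (dvd_of_eq (hcqi i).symm)
      rw [map_pow]
      exact this
    have h2 := hρ (g ^ cq (Quotient.mk r i)) i
    rw [h1] at h2
    obtain ⟨o, ho, ho', hc⟩ := aut_order (hμ i) h2
    refine ⟨cq (Quotient.mk r i) * o, Nat.mul_pos (hcpos _) ho, Nat.mul_le_mul_left _ ho', fun j hj s hs => ?_⟩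
    rw [← pow_mul] at hc
    obtain ⟨l, hl⟩ := (hr i j).mp hj.symm
    have h3 := hρ (g ^ l) i
    have h4 : ρ (g ^ l) i = j := by rw [map_zpow]; exact hl
    rw [h4] at h3
    rw [h3] at hs
    obtain ⟨s', hs', rfl⟩ := hs
    have h5 := hc s' hs'
    have h6 : g ^ (cq (Quotient.mk r i) * o) = MulAut.conj (g ^ l) (g ^ (cq (Quotient.mk r i) * o)) := by
      rw [MulAut.conj_apply]
      have : Commute (g ^ l) (g ^ (cq (Quotient.mk r i) * o)) := (Commute.refl g).zpow_left l |>.pow_right _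
      rw [this.eq, mul_inv_cancel_right]
    rw [h6]
    exact h5.map (MulAut.conj (g ^ l))
  choose k hk0 hkle hkc using hex
  refine ⟨∏ q, k q, Finset.prod_pos fun q _ => hk0 q, ?_, ?_⟩
  · apply C.commute_of_factors
    intro j s hs
    obtain ⟨d, hd⟩ := Finset.dvd_prod_of_mem k (Finset.mem_univ (Quotient.mk r j))
    rw [hd, pow_mul]
    have h1 := (hkc (Quotient.mk r j) j rfl s hs).pow_left d
    rw [h1.eq, mul_inv_cancel_right]
  · let q₀ : Quotient r := Quotient.mk r i₀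
    have hq₀ : 2 ≤ cq q₀ := by
      by_contra hcon
      have h1 : cq q₀ = 1 := by
        have := hcpos q₀
        omega
      apply hi₀
      have := (MulAction.pow_smul_eq_iff_period_dvd (m := ρ g) (a := i₀) (n := cq q₀)).mpr
        (dvd_of_eq (hcqi i₀).symm)
      rw [h1, pow_one] at this
      exact this
    have hall : ∀ q, k q ^ 2 ≤ t ^ cq q := by
      intro q
      rcases Nat.lt_or_ge (cq q) 2 with h | h
      · have h1 : cq q = 1 := by
          have := hcpos q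
          omega
        have h2 := hkle q
        rw [h1, one_mul] at h2
        rw [h1, pow_one]
        exact (Nat.pow_le_pow_left h2 2).trans hμt.le
      · have h1 := arith_cycle hμt ht h
        have h2 := Nat.pow_le_pow_left (hkle q) 2
        omega
    have hst : 4 * k q₀ ^ 2 < t ^ cq q₀ := by
      have h1 := arith_cycle hμt ht hq₀
      have h2 := Nat.pow_le_pow_left (hkle q₀) 2
      omega
    have htm : t ^ m = ∏ q, t ^ cq q := by rw [Finset.prod_pow_eq_pow_sum, hsum]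
    rw [← Finset.prod_pow, htm, ← Finset.mul_prod_erase _ _ (Finset.mem_univ q₀),
      ← Finset.mul_prod_erase (Finset.univ) (fun q => t ^ cq q) (Finset.mem_univ q₀), ← mul_assoc]
    have h3 : ∏ q ∈ Finset.univ.erase q₀, k q ^ 2 ≤ ∏ q ∈ Finset.univ.erase q₀, t ^ cq q :=
      Finset.prod_le_prod' fun q _ => hall q
    have h4 : 0 < ∏ q ∈ Finset.univ.erase q₀, t ^ cq q := Finset.prod_pos fun q _ => by positivity
    calc 4 * k q₀ ^ 2 * ∏ q ∈ Finset.univ.erase q₀, k q ^ 2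
        ≤ 4 * k q₀ ^ 2 * ∏ q ∈ Finset.univ.erase q₀, t ^ cq q := Nat.mul_le_mul_left _ h3
      _ < t ^ cq q₀ * ∏ q ∈ Finset.univ.erase q₀, t ^ cq q := Nat.mul_lt_mul_of_pos_right hst h4

/-- all factors normalised -/
theorem coo_norm [Finite G] (C : Coo N T e) {μ : ℕ} (hμ : ∀ i, Mo (T i) μ) {g : G}
    (hg : ∀ i, T i = (T i).map (MulAut.conj g).toMonoidHom) :
    ∃ K, 0 < K ∧ g ^ K ∈ centralizer (N : Set G) ∧ K ≤ μ ^ m := by
  choose o ho ho' hc using fun i => aut_order (hμ i) (hg i)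
  refine ⟨∏ i, o i, Finset.prod_pos fun i _ => ho i, ?_, ?_⟩
  · apply C.commute_of_factors
    intro j s hs
    obtain ⟨d, hd⟩ := Finset.dvd_prod_of_mem o (Finset.mem_univ j)
    rw [hd, pow_mul]
    have h1 := (hc j s hs).pow_left d
    rw [h1.eq, mul_inv_cancel_right]
  · calc ∏ i, o i ≤ ∏ _i : Fin m, μ := Finset.prod_le_prod' fun i _ => ho' i
      _ = μ ^ m := by simp

/-- the bound in the case `Ord` -/
theorem coo_ord [Finite G] (C : Coo N T e) {μ t : ℕ} (hμ : ∀ i, Mo (T i) μ)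
    (hμt : 2 * μ ^ 2 < t) (ht : 60 ≤ t) (g : G) :
    ∃ K, 0 < K ∧ g ^ K ∈ centralizer (N : Set G) ∧ 2 * K ^ 2 < t ^ m ∧ (2 ≤ m → 4 * K ^ 2 < t ^ m) := by
  rcases coo_bound C hμ (by omega) ht g with ⟨K, h1, h2, h3⟩ | h
  · exact ⟨K, h1, h2, by omega, fun _ => h3⟩
  · obtain ⟨K, h1, h2, h3⟩ := coo_norm C hμ h
    have h4 : 2 ^ m * K ^ 2 < t ^ m := by
      calc 2 ^ m * K ^ 2 ≤ 2 ^ m * (μ ^ m) ^ 2 := Nat.mul_le_mul_left _ (Nat.pow_le_pow_left h3 2)
        _ = (2 * μ ^ 2) ^ m := by rw [mul_pow, ← pow_mul, ← pow_mul, mul_comm m 2]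
        _ < t ^ m := Nat.pow_lt_pow_left hμt C.hm.ne'
    have h5 : 2 ^ 1 ≤ 2 ^ m := Nat.pow_le_pow_right (by norm_num) C.hm
    refine ⟨K, h1, h2, ?_, fun hm => ?_⟩
    · calc 2 * K ^ 2 ≤ 2 ^ m * K ^ 2 := Nat.mul_le_mul_right _ h5
        _ < _ := h4
    · have h6 : 2 ^ 2 ≤ 2 ^ m := Nat.pow_le_pow_right (by norm_num) hm
      calc 4 * K ^ 2 ≤ 2 ^ m * K ^ 2 := Nat.mul_le_mul_right _ h6
        _ < _ := h4

theorem arith_five (m : ℕ) : 4 * 36 ^ (m + 3) < 60 ^ (m + 3) := by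
  induction m with
  | zero => norm_num
  | succ m ih =>
    have h1 : 36 ^ (m + 1 + 3) = 36 ^ (m + 3) * 36 := by rw [show m + 1 + 3 = (m + 3) + 1 by ring, pow_succ]
    have h2 : 60 ^ (m + 1 + 3) = 60 ^ (m + 3) * 60 := by rw [show m + 1 + 3 = (m + 3) + 1 by ring, pow_succ]
    rw [h1, h2]
    omega

theorem lcm_six {a b : ℕ} (ha : 0 < a) (ha' : a ≤ 6) (hb : 0 < b) (hb' : b ≤ 6) (h : 30 ≤ a.lcm b) :
    (a = 5 ∧ b = 6) ∨ (a = 6 ∧ b = 5) := by
  interval_cases a <;> interval_cases b <;> first | (exfalso; revert h; decide) | simp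

/-- the bound in the case `A₅` -/
theorem coo_five [Finite G] (C : Coo N T e) (hμ : ∀ i, Mo (T i) 6) (g : G) :
    (∃ K, 0 < K ∧ g ^ K ∈ centralizer (N : Set G) ∧ 4 * K ^ 2 < 60 ^ m) ∨
    (m = 1 ∧ ∃ K, 0 < K ∧ g ^ K ∈ centralizer (N : Set G) ∧ K ≤ 6) ∨
    (m = 2 ∧ (∃ K, 0 < K ∧ g ^ K ∈ centralizer (N : Set G) ∧ 4 * K ^ 2 ≤ 60 ^ m) ∧
      ∃ o : Fin m → ℕ, ∀ i, 0 < o i ∧ o i ≤ 6 ∧ ∀ t ∈ T i, Commute (g ^ o i) t) := by
  rcases coo_bound C hμ (by norm_num) le_rfl g with h | h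
  · exact Or.inl h
  · rcases Nat.lt_or_ge m 3 with hm | hm
    · have hm0 := C.hm
      have hm' : m = 1 ∨ m = 2 := by omega
      rcases hm' with rfl | rfl
      · obtain ⟨K, h1, h2, h3⟩ := coo_norm C hμ h
        exact Or.inr (Or.inl ⟨rfl, K, h1, h2, by simpa using h3⟩)
      · choose o ho ho' hc using fun i => aut_order (hμ i) (h i)
        by_cases hl : (o 0).lcm (o 1) ≤ 30
        · refine Or.inr (Or.inr ⟨rfl, ⟨(o 0).lcm (o 1), Nat.lcm_pos (ho 0) (ho 1), ?_, ?_⟩, o, fun i =>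
            ⟨ho i, ho' i, hc i⟩⟩)
          · apply C.commute_of_factors
            intro j s hs
            have hd : o j ∣ (o 0).lcm (o 1) := by
              fin_cases j
              · exact Nat.dvd_lcm_left _ _
              · exact Nat.dvd_lcm_right _ _
            obtain ⟨d, hd⟩ := hd
            rw [hd, pow_mul]
            have h1 := (hc j s hs).pow_left d
            rw [h1.eq, mul_inv_cancel_right]
          · calc 4 * ((o 0).lcm (o 1)) ^ 2 ≤ 4 * 30 ^ 2 := Nat.mul_le_mul_left _ (Nat.pow_le_pow_left hl 2)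
              _ = 60 ^ 2 := by norm_num
        · exfalso
          rcases lcm_six (ho 0) (ho' 0) (ho 1) (ho' 1) (by omega) with ⟨h1, h2⟩ | ⟨h1, h2⟩
          · rw [h1, h2] at hl
            exact hl (by decide)
          · rw [h1, h2] at hl
            exact hl (by decide)
    · left
      obtain ⟨K, h1, h2, h3⟩ := coo_norm C hμ h
      refine ⟨K, h1, h2, ?_⟩
      obtain ⟨l, rfl⟩ : ∃ l, m = l + 3 := ⟨m - 3, by omega⟩
      calc 4 * K ^ 2 ≤ 4 * (6 ^ (l + 3)) ^ 2 := Nat.mul_le_mul_left _ (Nat.pow_le_pow_left h3 2)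
        _ = 4 * 36 ^ (l + 3) := by rw [← pow_mul, mul_comm (l + 3) 2, pow_mul]; norm_num
        _ < 60 ^ (l + 3) := arith_five l

end Cfsg.Agent.H989.Cyc
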