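import Cfsg.Agent.H989.Cyc.TwoTrans

/-!
# Product action (helper989, TEAM TWOCYC, S3507)

`PS G E d` : the set `Ω` is a product of `Ω / E i` of size `d`, permuted transitively by `G`.
`PS.rk_le_three` : if `G` is primitive, there are at least two factors, `d ≥ 5` and `g` has two cycles, then the rank is
at most `3`.
-/

set_option autoImplicit false

namespace Cfsg.Agent.H989.Cyc

open MulAction Cfsg.Agent.H384.Cyc

universe u v w

section
variable {G : Type u} {Ω : Type v} [Group G] [MulAction G Ω]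

/-- the elements preserving an equivalence relation -/
def stabE (E : Setoid Ω) : Subgroup G where
  carrier := {x | ∀ a b, E (x • a) (x • b) ↔ E a b}
  mul_mem' := fun {x y} hx hy a b => by rw [mul_smul, mul_smul, hx, hy]
  one_mem' := fun a b => by simp
  inv_mem' := fun {x} hx a b => by rw [← hx, smul_inv_smul, smul_inv_smul]

theorem mem_stabE {E : Setoid Ω} {x : G} : x ∈ stabE (G := G) E ↔ ∀ a b, E (x • a) (x • b) ↔ E a b := Iff.rfl

/-- the action on the quotient -/
@[reducible] def qact (H : Subgroup G) (E : Setoid Ω) (h : H ≤ stabE E) : MulAction H (Quotient E) where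
  smul x := Quotient.map (fun a => (x : G) • a) (fun a b hab => (h x.2 a b).mpr hab)
  one_smul := by
    rintro ⟨a⟩
    exact Quotient.sound (by simp)
  mul_smul := by
    rintro x y ⟨a⟩
    exact Quotient.sound (by simp [mul_smul])

/-- A product structure permuted by `G`. -/
structure PS (G : Type u) {Ω : Type v} [Group G] [MulAction G Ω] {ι : Type w} (E : ι → Setoid Ω) (d : ℕ) : Prop where
  perm : ∀ (x : G) (i : ι), ∃ j, ∀ a b : Ω, E i a b ↔ E j (x • a) (x • b)
  trans : ∀ i j : ι, ∃ x : G, ∀ a b : Ω, E i a b ↔ E j (x • a) (x • b)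
  inj : ∀ a b, (∀ i, E i a b) → a = b
  surj : ∀ w : ι → Ω, ∃ a, ∀ i, E i (w i) a
  card : ∀ i, Nat.card (Quotient (E i)) = d

variable {ι : Type w} {E : ι → Setoid Ω} {d : ℕ}

theorem PS.exists_not (P : PS G E d) (hd : 2 ≤ d) (i : ι) : ∃ a b : Ω, ¬ E i a b := by
  by_contra hcon
  push Not at hcon
  have h1 := P.card i
  have h2 : Subsingleton (Quotient (E i)) := ⟨by
    rintro ⟨a⟩ ⟨b⟩
    exact Quotient.sound (hcon a b)⟩
  have h3 : Nat.card (Quotient (E i)) ≤ 1 := Finite.card_le_one_iff_subsingleton.mpr h2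
  omega

theorem PS.surj2 (P : PS G E d) {i j : ι} (hij : i ≠ j) (a b : Ω) : ∃ c, E i a c ∧ E j b c := by
  classical
  obtain ⟨c, hc⟩ := P.surj (fun k => if k = i then a else b)
  refine ⟨c, ?_, ?_⟩
  · simpa using hc i
  · simpa [hij.symm] using hc j

theorem PS.injE (P : PS G E d) (hd : 2 ≤ d) {i j : ι} (h : ∀ a b, E i a b ↔ E j a b) : i = j := by
  by_contra hij
  obtain ⟨a, b, hab⟩ := P.exists_not hd i
  obtain ⟨c, hc1, hc2⟩ := P.surj2 hij a b
  exact hab ((E i).trans hc1 ((E i).symm ((h b c).mpr hc2)))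

/-- Step 1: `g` fixes all coordinates. -/
theorem PS.mem_stabE (P : PS G E d) [Finite G] [Finite Ω] (hd : 5 ≤ d) {g : G} (hg : Two Ω g) (i : ι) :
    g ∈ stabE (G := G) (E i) := by
  classical
  by_contra hgi
  have hex : ∃ c, 0 < c ∧ g ^ c ∈ stabE (G := G) (E i) :=
    ⟨orderOf g, orderOf_pos g, by rw [pow_orderOf_eq_one]; exact Subgroup.one_mem _⟩
  obtain ⟨c, hc, hcmin⟩ : ∃ c, (0 < c ∧ g ^ c ∈ stabE (G := G) (E i)) ∧
      ∀ c' < c, ¬ (0 < c' ∧ g ^ c' ∈ stabE (G := G) (E i)) :=
    ⟨Nat.find hex, Nat.find_spec hex, fun c' h => Nat.find_min hex h⟩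
  have hc2 : 2 ≤ c := by
    rcases Nat.lt_or_ge c 2 with h | h
    · have : c = 1 := by omega
      rw [this, pow_one] at hc
      exact absurd hc.2 hgi
    · exact h
  -- the coordinates in the cycle
  choose σ hσ using fun j : ℕ => P.perm (g ^ j) i
  have hσinj : ∀ j k : ℕ, j < k → k < c → σ j ≠ σ k := by
    intro j k hjk hkc h
    apply hcmin (k - j) (by omega)
    refine ⟨by omega, ?_⟩
    intro a b
    have h1 := hσ j (g ^ (k - j) • a) (g ^ (k - j) • b)
    rw [smul_smul, smul_smul, ← pow_add, h, show j + (k - j) = k by omega, ← hσ k] at h1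
    exact h1
  have hinj : Function.Injective (fun j : Fin c => σ j) := by
    intro j k hjk
    rcases lt_trichotomy j k with h | h | h
    · exact absurd hjk (hσinj j k h k.2)
    · exact h
    · exact absurd hjk.symm (hσinj k j h j.2)
  have hσ' : ∀ (j : ℕ) (a b : Ω), E (σ j) a b ↔ E i ((g ^ j)⁻¹ • a) ((g ^ j)⁻¹ • b) := by
    intro j a b
    rw [hσ j, smul_inv_smul, smul_inv_smul]
  have hsurj : ∀ w : ℕ → Ω, ∃ a, ∀ j < c, E i (w j) ((g ^ j)⁻¹ • a) := by
    intro w
    obtain ⟨a, ha⟩ := P.surj (Function.extend (fun j : Fin c => σ j) (fun j => g ^ (j : ℕ) • w j) (fun _ => w 0))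
    refine ⟨a, fun j hj => ?_⟩
    have h1 := ha (σ j)
    have h2 := hinj.extend_apply (fun j : Fin c => g ^ (j : ℕ) • w j) (fun _ => w 0) ⟨j, hj⟩
    simp only at h2
    rw [h2, hσ', inv_smul_smul] at h1
    exact h1
  by_cases htr : ∀ a b : Ω, ∃ k : ℤ, E i ((g ^ c) ^ k • a) b
  · -- transitive: too many points
    let H : Subgroup G := stabE (E i)
    let _ : MulAction H (Quotient (E i)) := qact H (E i) le_rfl
    let h : H := ⟨g ^ c, hc.2⟩
    have hfin : Finite (Quotient (E i)) := inferInstance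
    have htr' : ∀ x y : Quotient (E i), Sc h x y := by
      rintro ⟨a⟩ ⟨b⟩
      obtain ⟨k, hk⟩ := htr a b
      exact ⟨k, Quotient.sound hk⟩
    have hper : ∀ x : Quotient (E i), h ^ d • x = x := by
      intro x
      rw [MulAction.pow_smul_eq_iff_period_dvd, period_eq_ncard, ← P.card i, ← Set.ncard_univ]
      refine dvd_of_eq ?_
      congr 1
      ext y
      simpa using htr' x y
    have hper' : ∀ a : Ω, E i (g ^ (c * d) • a) a := by
      intro a
      have h1 := Quotient.exact (hper (Quotient.mk _ a))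
      rw [pow_mul]
      exact h1
    let F : Ω → (Fin c → Quotient (E i)) := fun a j => Quotient.mk _ ((g ^ (j : ℕ))⁻¹ • a)
    have hF : ∀ a, F (g ^ (c * d) • a) = F a := by
      intro a
      funext j
      refine Quotient.sound ?_
      have h1 := hper' ((g ^ (j : ℕ))⁻¹ • a)
      rw [smul_smul, ← (Commute.refl g).pow_pow (c * d) j |>.symm.inv_left.eq, mul_smul] at h1
      exact h1
    have hFs : Function.Surjective F := by
      intro y
      obtain ⟨w, hw⟩ : ∃ w : Fin c → Ω, ∀ j, Quotient.mk (E i) (w j) = y j :=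
        ⟨fun j => (y j).out, fun j => Quotient.out_eq _⟩
      obtain ⟨a, ha⟩ := hsurj (fun j => if h : j < c then w ⟨j, h⟩ else w ⟨0, by omega⟩)
      refine ⟨a, ?_⟩
      funext j
      rw [← hw j]
      refine (Quotient.sound ?_).symm
      have := ha j j.2
      simpa using this
    have h1 := Two.card_range_le hg F (c * d) (by positivity) hF
    rw [hFs.range_eq, Nat.card_univ] at h1
    have h2 : Nat.card (Fin c → Quotient (E i)) = d ^ c := by
      rw [Nat.card_fun, P.card i, Nat.card_eq_fintype_card, Fintype.card_fin]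
    rw [h2] at h1
    obtain ⟨e, rfl⟩ : ∃ e, c = e + 2 := ⟨c - 2, by omega⟩
    have h3 : ∀ e : ℕ, 2 * (e + 2) < 5 ^ (e + 1) := by
      intro e
      induction e with
      | zero => norm_num
      | succ e ih => rw [pow_succ]; omega
    have h4 : 5 ^ (e + 1) ≤ d ^ (e + 1) := Nat.pow_le_pow_left hd _
    have h5 : d ^ (e + 2) = d ^ (e + 1) * d := by rw [pow_succ]
    rw [h5] at h1
    have h6 : d ^ (e + 1) * d ≤ (2 * (e + 2)) * d := by
      calc _ ≤ 2 * ((e + 2) * d) := h1
        _ = _ := by ring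
    have h7 := Nat.le_of_mul_le_mul_right h6 (by omega)
    have h8 := h3 e
    omega
  · -- not transitive: too many cycles
    push Not at htr
    obtain ⟨a₀, a₁, hno⟩ := htr
    let χ : Ω → ℕ := fun a => if ∃ k : ℤ, E i ((g ^ c) ^ k • a₀) a then 1 else 0
    have hχE : ∀ a b, E i a b → χ a = χ b := by
      intro a b hab
      have : (∃ k : ℤ, E i ((g ^ c) ^ k • a₀) a) ↔ (∃ k : ℤ, E i ((g ^ c) ^ k • a₀) b) :=
        exists_congr fun k => ⟨fun h => (E i).trans h hab, fun h => (E i).trans h ((E i).symm hab)⟩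
      simp only [χ, this]
    have hχ0 : χ a₁ = 0 := if_neg (by push Not; exact hno)
    have hχ1 : χ a₀ = 1 := if_pos ⟨0, by simp⟩
    have hχg : ∀ a, χ ((g ^ c)⁻¹ • a) = χ a := by
      intro a
      have : (∃ k : ℤ, E i ((g ^ c) ^ k • a₀) ((g ^ c)⁻¹ • a)) ↔ (∃ k : ℤ, E i ((g ^ c) ^ k • a₀) a) := by
        constructor
        · rintro ⟨k, hk⟩
          refine ⟨k + 1, ?_⟩
          rw [← hc.2, smul_inv_smul] at hk
          rwa [add_comm, zpow_add, zpow_one, mul_smul]
        · rintro ⟨k, hk⟩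
          refine ⟨k - 1, ?_⟩
          rw [← hc.2, smul_inv_smul, smul_smul, ← zpow_one_add]
          rwa [add_sub_cancel]
      simp only [χ, this]
    let F : Ω → ℕ := fun a => ∑ j ∈ Finset.range c, χ ((g ^ j)⁻¹ • a)
    have hF : ∀ a, F (g • a) = F a := by
      intro a
      let b : ℕ → ℕ := fun j => χ ((g ^ j)⁻¹ • (g • a))
      have h1 : F (g • a) = ∑ j ∈ Finset.range c, b j := rfl
      have h2 : F a = ∑ j ∈ Finset.range c, b (j + 1) := by
        refine Finset.sum_congr rfl fun j _ => ?_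
        change χ ((g ^ j)⁻¹ • a) = χ ((g ^ (j + 1))⁻¹ • (g • a))
        rw [pow_succ', mul_inv_rev, mul_smul, inv_smul_smul]
      have h3 : b c = b 0 := by
        change χ ((g ^ c)⁻¹ • (g • a)) = χ ((g ^ 0)⁻¹ • (g • a))
        rw [hχg]
        simp
      have h4 := Finset.sum_range_succ b c
      have h5 := Finset.sum_range_succ' b c
      rw [h1, h2]
      omega
    have hval : ∀ w : ℕ → Ω, ∃ a, F a = ∑ j ∈ Finset.range c, χ (w j) := by
      intro w
      obtain ⟨a, ha⟩ := hsurj w
      exact ⟨a, Finset.sum_congr rfl fun j hj => (hχE _ _ (ha j (Finset.mem_range.mp hj))).symm⟩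
    obtain ⟨b0, hb0⟩ := hval (fun _ => a₁)
    obtain ⟨b1, hb1⟩ := hval (fun j => if j = 0 then a₀ else a₁)
    obtain ⟨b2, hb2⟩ := hval (fun _ => a₀)
    have e0 : F b0 = 0 := by rw [hb0]; simp [hχ0]
    have e1 : F b1 = 1 := by
      rw [hb1, Finset.sum_eq_single 0]
      · simp [hχ1]
      · intro j _ hj
        simp [hj, hχ0]
      · intro h
        exact absurd (Finset.mem_range.mpr (by omega)) h
    have e2 : F b2 = c := by rw [hb2]; simp [hχ1]
    rcases Two.pigeon hg b0 b1 b2 with h | h | h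
    · have := Sc.invariant hF h
      omega
    · have := Sc.invariant hF h
      omega
    · have := Sc.invariant hF h
      omega

end

end Cfsg.Agent.H989.Cyc
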