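import Cfsg.Agent.H989.Cyc.ProdAct

/-!
# Product action: the rank (helper989, TEAM TWOCYC, S3507)

`PS.rk_le_three` : `G` primitive on a product of at least two factors of size `≥ 5` permuted by `G`, `g` with two
cycles; then the rank is at most `3`.
-/

set_option autoImplicit false

namespace Cfsg.Agent.H989.Cyc

open MulAction Cfsg.Agent.H384.Cyc

universe u v w

variable {G : Type u} {Ω : Type v} [Group G] [MulAction G Ω] {ι : Type w} {E : ι → Setoid Ω} {d : ℕ}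

/-- `g` is transitive on the coordinate `i` -/
def Tr (E : Setoid Ω) (g : G) : Prop := ∀ a b : Ω, ∃ k : ℤ, E (g ^ k • a) b

theorem pow_of_tr [Finite Ω] {E : Setoid Ω} {g : G} (h : g ∈ stabE (G := G) E) (hd : Nat.card (Quotient E) = d)
    (ht : Tr E g) (a : Ω) : E (g ^ d • a) a := by
  let H : Subgroup G := stabE E
  let _ : MulAction H (Quotient E) := qact H E le_rfl
  let h : H := ⟨g, h⟩
  have hfin : Finite (Quotient E) := inferInstance
  have htr' : ∀ x y : Quotient E, Sc h x y := by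
    rintro ⟨a⟩ ⟨b⟩
    obtain ⟨k, hk⟩ := ht a b
    exact ⟨k, Quotient.sound hk⟩
  have hper : ∀ x : Quotient E, h ^ d • x = x := by
    intro x
    rw [MulAction.pow_smul_eq_iff_period_dvd, period_eq_ncard, ← hd, ← Set.ncard_univ]
    refine dvd_of_eq ?_
    congr 1
    ext y
    simpa using htr' x y
  exact Quotient.exact (hper (Quotient.mk _ a))

theorem PS.not_both (P : PS G E d) [Finite G] [Finite Ω] (hd : 5 ≤ d) {g : G} (hg : Two Ω g) {i j : ι} (hij : i ≠ j)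
    (hi : Tr (E i) g) (hj : Tr (E j) g) : False := by
  let F : Ω → Quotient (E i) × Quotient (E j) := fun a => (Quotient.mk _ a, Quotient.mk _ a)
  have h1 := Two.card_range_le hg F d (by omega) (fun a => Prod.ext
    (Quotient.sound (pow_of_tr (P.mem_stabE hd hg i) (P.card i) hi a))
    (Quotient.sound (pow_of_tr (P.mem_stabE hd hg j) (P.card j) hj a)))
  have h2 : Function.Surjective F := by
    rintro ⟨⟨a⟩, ⟨b⟩⟩
    obtain ⟨c, hc1, hc2⟩ := P.surj2 hij a b
    exact ⟨c, Prod.ext (Quotient.sound ((E i).symm hc1)) (Quotient.sound ((E j).symm hc2))⟩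
  rw [h2.range_eq, Nat.card_univ, Nat.card_prod, P.card, P.card] at h1
  have h3 := Nat.le_of_mul_le_mul_right h1 (by omega)
  omega

theorem PS.tr_or (P : PS G E d) [Finite G] [Finite Ω] (hd : 5 ≤ d) {g : G} (hg : Two Ω g) {i j : ι} (hij : i ≠ j) :
    Tr (E i) g ∨ Tr (E j) g := by
  by_contra hcon
  push Not at hcon
  obtain ⟨hi, hj⟩ := hcon
  unfold Tr at hi hj
  push Not at hi hj
  obtain ⟨a, a', ha⟩ := hi
  obtain ⟨b, b', hb⟩ := hj
  have key : ∀ (i : ι) (a c : Ω), (∃ k : ℤ, E i (g ^ k • a) (g • c)) = (∃ k : ℤ, E i (g ^ k • a) c) := by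
    intro i a c
    have h1 := P.mem_stabE hd hg i
    refine propext ⟨?_, ?_⟩
    · rintro ⟨k, hk⟩
      refine ⟨k - 1, ?_⟩
      rw [← h1, smul_smul, ← zpow_one_add]
      rwa [add_sub_cancel]
    · rintro ⟨k, hk⟩
      refine ⟨1 + k, ?_⟩
      rw [zpow_one_add, mul_smul, h1]
      exact hk
  let F : Ω → Prop × Prop := fun c => (∃ k : ℤ, E i (g ^ k • a) c, ∃ k : ℤ, E j (g ^ k • b) c)
  have hF : ∀ c, F (g • c) = F c := fun c => Prod.ext (key i a c) (key j b c)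
  have hF' : ∀ x y, ∃ c, ((F c).1 ↔ ∃ k : ℤ, E i (g ^ k • a) x) ∧ ((F c).2 ↔ ∃ k : ℤ, E j (g ^ k • b) y) := by
    intro x y
    obtain ⟨c, h1, h2⟩ := P.surj2 hij x y
    refine ⟨c, exists_congr fun k => ?_, exists_congr fun k => ?_⟩
    · exact ⟨fun h => (E i).trans h ((E i).symm h1), fun h => (E i).trans h h1⟩
    · exact ⟨fun h => (E j).trans h ((E j).symm h2), fun h => (E j).trans h h2⟩
  have hta : ∃ k : ℤ, E i (g ^ k • a) a := ⟨0, by simp⟩
  have htb : ∃ k : ℤ, E j (g ^ k • b) b := ⟨0, by simp⟩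
  have hfa : ¬ ∃ k : ℤ, E i (g ^ k • a) a' := by push Not; exact ha
  have hfb : ¬ ∃ k : ℤ, E j (g ^ k • b) b' := by push Not; exact hb
  obtain ⟨c1, h11, h12⟩ := hF' a b
  obtain ⟨c2, h21, h22⟩ := hF' a b'
  obtain ⟨c3, h31, h32⟩ := hF' a' b
  rcases Two.pigeon hg c1 c2 c3 with h | h | h
  · have := Sc.invariant hF h
    rw [this] at h12
    exact hfb (h22.mp (h12.mpr htb))
  · have := Sc.invariant hF h
    rw [this] at h11
    exact hfa (h31.mp (h11.mpr hta))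
  · have := Sc.invariant hF h
    rw [this] at h21
    exact hfa (h31.mp (h21.mpr hta))

/-- two factors -/
theorem PS.rk_aux (P : PS G E d) [Finite G] [Finite Ω] (hprim : IsPreprimitive G Ω) (hd : 5 ≤ d) {g : G}
    (hg : Two Ω g) {i j : ι} (hij : i ≠ j) (hall : ∀ k, k = i ∨ k = j) (hi : Tr (E i) g) (hj : ¬ Tr (E j) g) :
    rk G Ω ≤ 3 := by
  have hinj : ∀ a b, E i a b → E j a b → a = b := by
    intro a b h1 h2
    refine P.inj a b fun k => ?_
    rcases hall k with rfl | rfl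
    · exact h1
    · exact h2
  obtain ⟨τ, hτ⟩ := P.trans i j
  have hτ' : ∀ a b, E j a b ↔ E i (τ • a) (τ • b) := by
    obtain ⟨k, hk⟩ := P.perm τ j
    rcases hall k with rfl | rfl
    · exact hk
    · exfalso
      apply hij
      refine P.injE (by omega) (fun a b => ?_)
      rw [hk, hτ]
  let H : Subgroup G := stabE (E i) ⊓ stabE (E j)
  have hH : ∀ x : G, x ∈ H ∨ τ * x ∈ H := by
    intro x
    obtain ⟨k, hk⟩ := P.perm x i
    obtain ⟨l, hl⟩ := P.perm x j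
    have hkl : k ≠ l := by
      rintro rfl
      exact hij (P.injE (by omega) (fun a b => by rw [hk, hl]))
    rcases hall k with h1 | h1
    · left
      subst h1
      have hlj : l = j := (hall l).resolve_left (fun h => hkl h.symm)
      subst hlj
      exact ⟨fun a b => (hk a b).symm, fun a b => (hl a b).symm⟩
    · right
      subst h1
      have hli : l = i := (hall l).resolve_right (fun h => hkl h.symm)
      subst hli
      refine ⟨fun a b => ?_, fun a b => ?_⟩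
      · rw [mul_smul, mul_smul, ← hτ', ← hk]
      · rw [mul_smul, mul_smul, ← hτ, ← hl]
  -- conjugation by `τ`
  have hτE1 : ∀ x ∈ stabE (G := G) (E i), τ * x * τ⁻¹ ∈ stabE (G := G) (E j) := by
    intro x hx a b
    have h1 := hx (τ⁻¹ • a) (τ⁻¹ • b)
    rw [hτ, hτ, smul_smul, smul_smul, smul_smul, smul_smul, smul_inv_smul, smul_inv_smul] at h1
    exact h1
  have hτE2 : ∀ x ∈ stabE (G := G) (E j), τ * x * τ⁻¹ ∈ stabE (G := G) (E i) := by
    intro x hx a b
    have h1 := hx (τ⁻¹ • a) (τ⁻¹ • b)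
    rw [hτ', hτ', smul_smul, smul_smul, smul_smul, smul_smul, smul_inv_smul, smul_inv_smul] at h1
    exact h1
  have hτH : ∀ x ∈ H, τ * x * τ⁻¹ ∈ H := fun x hx => ⟨hτE2 x hx.2, hτE1 x hx.1⟩
  let _ : MulAction H (Quotient (E i)) := qact H (E i) inf_le_left
  let _ : MulAction H (Quotient (E j)) := qact H (E j) inf_le_right
  have hgH : g ∈ H := ⟨P.mem_stabE hd hg i, P.mem_stabE hd hg j⟩
  have sm0 : ∀ (x : H) (a : Ω), x • (Quotient.mk (E i) a) = Quotient.mk (E i) ((x : G) • a) := fun _ _ => rfl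
  have sm1 : ∀ (x : H) (a : Ω), x • (Quotient.mk (E j) a) = Quotient.mk (E j) ((x : G) • a) := fun _ _ => rfl
  -- `H` is primitive on the second factor
  have hpr : IsPreprimitive H (Quotient (E j)) := by
    have htr : IsPretransitive H (Quotient (E j)) := by
      refine ⟨?_⟩
      rintro ⟨a⟩ ⟨b⟩
      obtain ⟨k, hk⟩ := hi (τ⁻¹ • a) (τ⁻¹ • b)
      refine ⟨⟨τ * g ^ k * τ⁻¹, hτH _ (Subgroup.zpow_mem _ hgH k)⟩, ?_⟩
      refine Quotient.sound ?_
      rw [hτ, smul_inv_smul, smul_smul, smul_smul] at hk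
      exact hk
    refine ⟨?_⟩
    intro B hB
    by_contra hBt
    rw [IsTrivialBlock] at hBt
    push Not at hBt
    obtain ⟨hB1, hB2⟩ := hBt
    obtain ⟨x, hx, y, hy, hxy⟩ := hB1
    obtain ⟨z, hz⟩ := (Set.ne_univ_iff_exists_notMem B).mp hB2
    obtain ⟨a, rfl⟩ := Quotient.exists_rep x
    obtain ⟨b, rfl⟩ := Quotient.exists_rep y
    obtain ⟨c, rfl⟩ := Quotient.exists_rep z
    have hinv : ∀ h : H, (∃ x ∈ B, h • x ∈ B) → ∀ x, h • x ∈ B ↔ x ∈ B := by
      intro h hh x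
      obtain ⟨w, hw, hw'⟩ := hh
      have h1 := hB.smul_eq_of_mem hw hw'
      constructor
      · intro hx
        rw [← h1, Set.smul_mem_smul_set_iff] at hx
        exact hx
      · intro hx
        rw [← h1]
        exact Set.smul_mem_smul_set hx
    let C : Set Ω := {ω | Quotient.mk (E j) (τ • ω) ∈ B ∧ Quotient.mk (E j) ω ∈ B}
    have hCH : ∀ h ∈ H, (∃ x ∈ C, h • x ∈ C) → ∀ x, h • x ∈ C ↔ x ∈ C := by
      rintro h hh ⟨w, hw, hw'⟩ x
      have h1 := hinv ⟨h, hh⟩ ⟨_, hw.2, hw'.2⟩ (Quotient.mk (E j) x)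
      have h3 : ∀ y : Ω, (⟨τ * h * τ⁻¹, hτH h hh⟩ : H) • (Quotient.mk (E j) (τ • y)) = Quotient.mk (E j) (τ • h • y) := by
        intro y
        rw [sm1]
        simp [smul_smul]
      have h2 := hinv ⟨τ * h * τ⁻¹, hτH h hh⟩ ⟨_, hw.1, by rw [h3]; exact hw'.1⟩ (Quotient.mk (E j) (τ • x))
      rw [h3] at h2
      exact and_congr h2 h1
    have hCG : ∀ h : G, (∃ x ∈ C, h • x ∈ C) → ∀ x, h • x ∈ C ↔ x ∈ C := by
      rintro h ⟨w, hw, hw'⟩ x
      rcases hH h with hh | hh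
      · exact hCH h hh ⟨w, hw, hw'⟩ x
      · have hk' : h * τ⁻¹ ∈ H := by
          refine ⟨fun a b => ?_, fun a b => ?_⟩
          · have h1 := hh.2 (τ⁻¹ • a) (τ⁻¹ • b)
            rw [hτ' (τ⁻¹ • a), smul_inv_smul, smul_inv_smul, mul_smul, mul_smul, ← hτ, smul_smul, smul_smul] at h1
            exact h1
          · have h1 := hh.1 (τ⁻¹ • a) (τ⁻¹ • b)
            rw [hτ (τ⁻¹ • a), smul_inv_smul, smul_inv_smul, mul_smul, mul_smul, ← hτ', smul_smul, smul_smul] at h1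
            exact h1
        have e1 : ∀ y : Ω, (⟨τ * h, hh⟩ : H) • (Quotient.mk (E j) y) = Quotient.mk (E j) (τ • h • y) := by
          intro y
          rw [sm1]
          simp [smul_smul]
        have e2 : ∀ y : Ω, (⟨h * τ⁻¹, hk'⟩ : H) • (Quotient.mk (E j) (τ • y)) = Quotient.mk (E j) (h • y) := by
          intro y
          rw [sm1]
          simp [smul_smul]
        have h1 := hinv ⟨τ * h, hh⟩ ⟨_, hw.2, by rw [e1]; exact hw'.1⟩ (Quotient.mk (E j) x)
        have h2 := hinv ⟨h * τ⁻¹, hk'⟩ ⟨_, hw.1, by rw [e2]; exact hw'.2⟩ (Quotient.mk (E j) (τ • x))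
        rw [e1] at h1
        rw [e2] at h2
        exact ⟨fun h => ⟨h2.mp h.2, h1.mp h.1⟩, fun h => ⟨h1.mpr h.2, h2.mpr h.1⟩⟩
    have hCblock : IsBlock G C := by
      rw [isBlock_iff_smul_eq_of_mem]
      intro h w hw hw'
      ext y
      have := hCG h ⟨w, hw, hw'⟩ (h⁻¹ • y)
      rw [smul_inv_smul] at this
      rw [Set.mem_smul_set_iff_inv_smul_mem, this]
    rcases hprim.isTrivialBlock_of_isBlock hCblock with h | h
    · -- subsingleton
      obtain ⟨p, hp1, hp2⟩ := P.surj2 hij (τ⁻¹ • a) a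
      obtain ⟨q, hq1, hq2⟩ := P.surj2 hij (τ⁻¹ • a) b
      have e1 : Quotient.mk (E j) (τ • p) = Quotient.mk (E j) a := by
        refine (Quotient.sound ?_).symm
        rw [hτ, smul_inv_smul] at hp1
        exact hp1
      have e2 : Quotient.mk (E j) (τ • q) = Quotient.mk (E j) a := by
        refine (Quotient.sound ?_).symm
        rw [hτ, smul_inv_smul] at hq1
        exact hq1
      have e3 : Quotient.mk (E j) p = Quotient.mk (E j) a := (Quotient.sound hp2).symm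
      have e4 : Quotient.mk (E j) q = Quotient.mk (E j) b := (Quotient.sound hq2).symm
      have hpC : p ∈ C := ⟨by rw [e1]; exact hx, by rw [e3]; exact hx⟩
      have hqC : q ∈ C := ⟨by rw [e2]; exact hx, by rw [e4]; exact hy⟩
      have hpq := h hpC hqC
      apply hxy
      rw [← e3, ← e4, hpq]
    · -- everything
      apply hz
      have : c ∈ C := by rw [h]; trivial
      exact this.2
  -- `2`-transitivity
  unfold Tr at hj
  push Not at hj
  obtain ⟨a₀, b₀, hab₀⟩ := hj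
  have lift : ∀ p : Quotient (E i) × Quotient (E j), ∃ ω : Ω, p = (Quotient.mk (E i) ω, Quotient.mk (E j) ω) := by
    rintro ⟨⟨a⟩, ⟨b⟩⟩
    obtain ⟨c, hc1, hc2⟩ := P.surj2 hij a b
    exact ⟨c, Prod.ext (Quotient.sound hc1) (Quotient.sound hc2)⟩
  have hScl : ∀ ω ω' : Ω, Sc g ω ω' → Sc (⟨g, hgH⟩ : H) ((Quotient.mk (E i) ω, Quotient.mk (E j) ω) :
      Quotient (E i) × Quotient (E j)) (Quotient.mk (E i) ω', Quotient.mk (E j) ω') := by
    rintro ω _ ⟨k, rfl⟩
    exact ⟨k, rfl⟩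
  have hZ := two_trans (H := H) (Δ₀ := Quotient (E i)) (Δ₁ := Quotient (E j)) d hd (P.card i) (P.card j) hpr
    ⟨g, hgH⟩ (by
      rintro ⟨a⟩ ⟨b⟩
      obtain ⟨k, hk⟩ := hi a b
      exact ⟨k, Quotient.sound hk⟩) (Quotient.mk (E j) a₀) (Quotient.mk (E j) b₀) (by
      rintro ⟨k, hk⟩
      exact hab₀ k (Quotient.exact hk)) (by
      intro p q r
      obtain ⟨x, rfl⟩ := lift p
      obtain ⟨y, rfl⟩ := lift q
      obtain ⟨z, rfl⟩ := lift r
      rcases Two.pigeon hg x y z with h | h | h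
      · exact Or.inl (hScl _ _ h)
      · exact Or.inr (Or.inl (hScl _ _ h))
      · exact Or.inr (Or.inr (hScl _ _ h)))
  have Z1 : ∀ a₁ b₁ a₂ b₂ : Ω, ¬ E j a₁ b₁ → ¬ E j a₂ b₂ → ∃ z ∈ H, (∀ x, E i (z • x) x) ∧ E j (z • a₁) a₂ ∧
      E j (z • b₁) b₂ := by
    intro a₁ b₁ a₂ b₂ h1 h2
    obtain ⟨z, hz1, hz2, hz3⟩ := hZ (Quotient.mk (E j) a₁) (Quotient.mk (E j) b₁) (Quotient.mk (E j) a₂)
      (Quotient.mk (E j) b₂) (fun h => h1 (Quotient.exact h)) (fun h => h2 (Quotient.exact h))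
    exact ⟨z, z.2, fun x => Quotient.exact (hz1 (Quotient.mk (E i) x)), Quotient.exact hz2, Quotient.exact hz3⟩
  have Z0 : ∀ a₁ b₁ a₂ b₂ : Ω, ¬ E i a₁ b₁ → ¬ E i a₂ b₂ → ∃ z ∈ H, (∀ x, E j (z • x) x) ∧ E i (z • a₁) a₂ ∧
      E i (z • b₁) b₂ := by
    intro a₁ b₁ a₂ b₂ h1 h2
    rw [hτ] at h1 h2
    obtain ⟨z, hz, hz1, hz2, hz3⟩ := Z1 _ _ _ _ h1 h2
    refine ⟨τ⁻¹ * z * τ, ⟨?_, ?_⟩, fun x => ?_, ?_, ?_⟩
    · intro a b
      have h1 := hz.2 (τ • a) (τ • b)
      rw [← hτ] at h1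
      rw [← h1, hτ]
      simp [smul_smul, mul_assoc]
    · intro a b
      have h1 := hz.1 (τ • a) (τ • b)
      rw [← hτ'] at h1
      rw [← h1, hτ']
      simp [smul_smul, mul_assoc]
    · have h1 := hz1 (τ • x)
      rw [hτ']
      simpa [smul_smul, mul_assoc] using h1
    · rw [hτ]
      simpa [smul_smul, mul_assoc] using hz2
    · rw [hτ]
      simpa [smul_smul, mul_assoc] using hz3
  have hne : ∀ (k : ι) (a : Ω), ∃ b, ¬ E k a b := by
    intro k a
    by_contra hcon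
    push Not at hcon
    obtain ⟨x, y, hxy⟩ := P.exists_not (by omega) k
    exact hxy ((E k).trans ((E k).symm (hcon x)) (hcon y))
  have Z1' : ∀ a₁ a₂ : Ω, ∃ z ∈ H, (∀ x, E i (z • x) x) ∧ E j (z • a₁) a₂ := by
    intro a₁ a₂
    obtain ⟨b₁, h1⟩ := hne j a₁
    obtain ⟨b₂, h2⟩ := hne j a₂
    obtain ⟨z, hz, hz1, hz2, -⟩ := Z1 _ _ _ _ h1 h2
    exact ⟨z, hz, hz1, hz2⟩
  have Z0' : ∀ a₁ a₂ : Ω, ∃ z ∈ H, (∀ x, E j (z • x) x) ∧ E i (z • a₁) a₂ := by
    intro a₁ a₂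
    obtain ⟨b₁, h1⟩ := hne i a₁
    obtain ⟨b₂, h2⟩ := hne i a₂
    obtain ⟨z, hz, hz1, hz2, -⟩ := Z0 _ _ _ _ h1 h2
    exact ⟨z, hz, hz1, hz2⟩
  obtain ⟨u, hu⟩ := hne i a₀
  obtain ⟨v, hv⟩ := hne j a₀
  obtain ⟨p, hp1, hp2⟩ := P.surj2 hij a₀ v
  obtain ⟨q, hq1, hq2⟩ := P.surj2 hij u v
  have hp2' : ¬ E j a₀ p := fun h => hv ((E j).trans h ((E j).symm hp2))
  have hq1' : ¬ E i a₀ q := fun h => hu ((E i).trans h ((E i).symm hq1))
  have hq2' : ¬ E j a₀ q := fun h => hv ((E j).trans h ((E j).symm hq2))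
  have caseB : ∀ s t : Ω, E i s t → ¬ E j s t → ∃ x : G, x • s = a₀ ∧ x • t = p := by
    intro s t h1 h2
    obtain ⟨z, hz, hz1, hz2, hz3⟩ := Z1 s t a₀ p h2 hp2'
    obtain ⟨y, hy, hy1, hy2⟩ := Z0' (z • s) a₀
    refine ⟨y * z, ?_, ?_⟩
    · refine hinj _ _ ?_ ?_
      · rw [mul_smul]; exact hy2
      · rw [mul_smul]; exact (E j).trans (hy1 _) hz2
    · refine hinj _ _ ?_ ?_
      · refine (E i).trans ((H.mul_mem hy hz).1 t s |>.mpr ((E i).symm h1)) ?_
        rw [mul_smul]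
        exact (E i).trans hy2 hp1
      · rw [mul_smul]; exact (E j).trans (hy1 _) hz3
  refine rk_le_three (a₀, a₀) (a₀, p) (a₀, q) ?_
  rintro ⟨s, t⟩
  by_cases h1 : E i s t
  · by_cases h2 : E j s t
    · obtain rfl : s = t := hinj s t h1 h2
      obtain ⟨z, hz, hz1, hz2⟩ := Z1' s a₀
      obtain ⟨y, hy, hy1, hy2⟩ := Z0' (z • s) a₀
      refine ⟨y * z, Or.inl ?_⟩
      have h3 : (y * z) • s = a₀ := by
        refine hinj _ _ ?_ ?_
        · rw [mul_smul]; exact hy2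
        · rw [mul_smul]; exact (E j).trans (hy1 _) hz2
      exact Prod.ext h3 h3
    · obtain ⟨x, hx1, hx2⟩ := caseB s t h1 h2
      exact ⟨x, Or.inr (Or.inl (Prod.ext hx1 hx2))⟩
  · by_cases h2 : E j s t
    · obtain ⟨x, hx1, hx2⟩ := caseB (τ • s) (τ • t) ((hτ' s t).mp h2) (fun h => h1 ((hτ s t).mpr h))
      refine ⟨x * τ, Or.inr (Or.inl (Prod.ext ?_ ?_))⟩
      · change (x * τ) • s = a₀
        rw [mul_smul, hx1]
      · change (x * τ) • t = p
        rw [mul_smul, hx2]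
    · obtain ⟨z, hz, hz1, hz2, hz3⟩ := Z1 s t a₀ q h2 hq2'
      obtain ⟨y, hy, hy1, hy2, hy3⟩ := Z0 (z • s) (z • t) a₀ q
        (fun h => h1 ((E i).trans ((E i).symm (hz1 s)) ((E i).trans h (hz1 t)))) hq1'
      refine ⟨y * z, Or.inr (Or.inr (Prod.ext ?_ ?_))⟩
      · refine hinj _ _ ?_ ?_
        · change E i ((y * z) • s) a₀
          rw [mul_smul]; exact hy2
        · change E j ((y * z) • s) a₀
          rw [mul_smul]; exact (E j).trans (hy1 _) hz2
      · refine hinj _ _ ?_ ?_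
        · change E i ((y * z) • t) q
          rw [mul_smul]; exact hy3
        · change E j ((y * z) • t) q
          rw [mul_smul]; exact (E j).trans (hy1 _) hz3

/-- Product action type. -/
theorem PS.rk_le_three (P : PS G E d) [Finite G] [Finite Ω] (hprim : IsPreprimitive G Ω) (hd : 5 ≤ d) {g : G}
    (hg : Two Ω g) {i j : ι} (hij : i ≠ j) : rk G Ω ≤ 3 := by
  have key : ∀ i j : ι, i ≠ j → Tr (E i) g → ¬ Tr (E j) g → rk G Ω ≤ 3 := by
    intro i j hij hi hj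
    refine P.rk_aux hprim hd hg hij ?_ hi hj
    intro k
    by_contra hcon
    push Not at hcon
    rcases P.tr_or hd hg hcon.2 with h | h
    · exact P.not_both hd hg hcon.1 h hi
    · exact hj h
  rcases P.tr_or hd hg hij with h | h
  · exact key i j hij h (fun h' => P.not_both hd hg hij h h')
  · exact key j i hij.symm h (fun h' => P.not_both hd hg hij h' h)

end Cfsg.Agent.H989.Cyc
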