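import Cfsg.Agent.H989.Cyc.Orders
import Cfsg.Agent.UGT.A7.Five

/-!
# Two groups `A₅` centralising each other (helper989, TEAM TWOCYC, S3507)

* `mo_five` : the automorphisms of `A₅` have order at most `6`;
* `special_sixty` : two subgroups `A₅` which are the centralizers of each other, both normalised by `g`: the order of
  `g` is less than `30`.
-/

set_option autoImplicit false

namespace Cfsg.Agent.H989.Cyc

open MulAction Subgroup Cfsg.Agent.H384.Cyc Cfsg.Agent.H124.OSCoord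

universe u v w

theorem perm5 : ∀ σ : Equiv.Perm (Fin 5), σ ^ 4 = 1 ∨ σ ^ 5 = 1 ∨ σ ^ 6 = 1 := by
  decide +kernel

theorem alt5 : ∀ σ : Equiv.Perm (Fin 5), Equiv.Perm.sign σ = 1 → σ ^ 2 = 1 ∨ σ ^ 3 = 1 ∨ σ ^ 5 = 1 := by
  decide +kernel

theorem mo_five : Mo (alternatingGroup (Fin 5)) 6 := by
  intro α
  obtain ⟨ψ, hψ⟩ := Cfsg.Agent.UGT.A7.Dg.exists_autHom5
  have hinj : Function.Injective ψ := by
    rw [injective_iff_map_eq_one]
    intro f hf
    ext x : 1
    apply Subtype.ext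
    rw [hψ, hf]
    simp
  rw [← orderOf_injective ψ hinj]
  rcases perm5 (ψ α) with h | h | h
  · exact (orderOf_le_of_pow_eq_one (by norm_num) h).trans (by norm_num)
  · exact (orderOf_le_of_pow_eq_one (by norm_num) h).trans (by norm_num)
  · exact orderOf_le_of_pow_eq_one (by norm_num) h

theorem mo_of_equiv {T : Type u} [Group T] (e : T ≃* alternatingGroup (Fin 5)) : Mo T 6 := by
  intro α
  have h1 := mo_five (MulAut.congr e α)
  rwa [MulEquiv.orderOf_eq] at h1

theorem order_five {T : Type u} [Group T] (e : T ≃* alternatingGroup (Fin 5)) (x : T) : orderOf x ≤ 5 := by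
  rw [← e.orderOf_eq, ← Subgroup.orderOf_coe]
  rcases alt5 (e x : Equiv.Perm (Fin 5)) (Equiv.Perm.mem_alternatingGroup.1 (e x).2) with h | h | h
  · exact (orderOf_le_of_pow_eq_one (by norm_num) h).trans (by norm_num)
  · exact (orderOf_le_of_pow_eq_one (by norm_num) h).trans (by norm_num)
  · exact orderOf_le_of_pow_eq_one (by norm_num) h

variable {G : Type u} [Group G]

theorem special_sixty [Finite G] {N₁ N₂ : Subgroup G} (e₁ : N₁ ≃* alternatingGroup (Fin 5))
    (e₂ : N₂ ≃* alternatingGroup (Fin 5)) (h₁ : centralizer (N₁ : Set G) ≤ N₂) (h₂ : centralizer (N₂ : Set G) ≤ N₁)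
    (hZ : ∀ x ∈ N₂, x ∈ centralizer (N₂ : Set G) → x = 1)
    {g : G} (hg : 30 ≤ orderOf g) {a b : ℕ} (ha : 0 < a) (ha' : a ≤ 6) (hb : 0 < b) (hb' : b ≤ 6)
    (hga : g ^ a ∈ centralizer (N₁ : Set G)) (hgb : g ^ b ∈ centralizer (N₂ : Set G)) : False := by
  have h1 : g ^ a.lcm b = 1 := by
    apply hZ
    · apply h₁
      obtain ⟨c, hc⟩ := Nat.dvd_lcm_left a b
      rw [hc, pow_mul]
      exact Subgroup.pow_mem _ hga c
    · obtain ⟨c, hc⟩ := Nat.dvd_lcm_right a b
      rw [hc, pow_mul]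
      exact Subgroup.pow_mem _ hgb c
  have h2 := orderOf_le_of_pow_eq_one (Nat.lcm_pos ha hb) h1
  have h3 := lcm_six ha ha' hb hb' (hg.trans h2)
  have h4 : orderOf g = 30 := by
    rcases h3 with ⟨rfl, rfl⟩ | ⟨rfl, rfl⟩
    · have : Nat.lcm 5 6 = 30 := by decide
      omega
    · have : Nat.lcm 6 5 = 30 := by decide
      omega
  have h5 : orderOf (g ^ 5) = 6 := by
    rw [orderOf_pow, h4]
    decide
  rcases h3 with ⟨rfl, rfl⟩ | ⟨rfl, rfl⟩
  · have h6 := order_five e₂ ⟨g ^ 5, h₁ hga⟩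
    rw [← Subgroup.orderOf_coe] at h6
    simp only at h6
    omega
  · have h6 := order_five e₁ ⟨g ^ 5, h₂ hgb⟩
    rw [← Subgroup.orderOf_coe] at h6
    simp only at h6
    omega

end Cfsg.Agent.H989.Cyc
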