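import Cfsg.Agent.H989.Cyc.Base

/-!
# The two factor case (helper989, TEAM TWOCYC, S3507)

`two_trans` : `H` acts on `Δ0`, `Δ1` of the same size `≥ 5`, primitively on `Δ1`, `g ∈ H` is transitive on `Δ0`, not
transitive on `Δ1` and has two cycles on `Δ0 × Δ1`. Then the kernel on `Δ0` is `2`-transitive on `Δ1`.
-/

set_option autoImplicit false

namespace Cfsg.Agent.H989.Cyc

open MulAction Cfsg.Agent.H384.Cyc

universe u v w

/-- A normal subgroup of a transitive group which is transitive on more than half of the points is transitive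
(relative version: `H` transitive on the invariant set `Y`). -/
theorem trans_of_half {G : Type u} {X : Type v} [Group G] [MulAction G X] [Finite X] (H Z : Subgroup G)
    (hZ : ∀ h ∈ H, ∀ z ∈ Z, h * z * h⁻¹ ∈ Z)
    (Y W : Set X) (hH : ∀ h ∈ H, ∀ y ∈ Y, h • y ∈ Y) (htr : ∀ a ∈ Y, ∀ b ∈ Y, ∃ h ∈ H, h • a = b) (hWY : W ⊆ Y)
    (hW : ∀ a ∈ W, ∀ b ∈ W, ∃ z ∈ Z, z • a = b) (hcard : Y.ncard < 2 * W.ncard) :
    ∀ a ∈ Y, ∀ b ∈ Y, ∃ z ∈ Z, z • a = b := by
  have hWne : W.Nonempty := by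
    rw [← Set.ncard_pos]
    omega
  obtain ⟨w, hw⟩ := hWne
  have key : ∀ b ∈ Y, ∃ z ∈ Z, z • w = b := by
    intro b hb
    obtain ⟨h, hh, rfl⟩ := htr w (hWY hw) b hb
    have h1 : ((fun x => h • x) '' W).ncard = W.ncard := Set.ncard_image_of_injective _ (MulAction.injective h)
    have h2 : (W ∩ (fun x => h • x) '' W).Nonempty := by
      rw [Set.nonempty_iff_ne_empty]
      intro h3
      have h4 := Set.ncard_union_eq (Set.disjoint_iff_inter_eq_empty.mpr h3) W.toFinite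
        (Set.toFinite ((fun x => h • x) '' W))
      have h5 : (W ∪ (fun x => h • x) '' W) ⊆ Y := by
        rintro x (hx | ⟨y, hy, rfl⟩)
        · exact hWY hx
        · exact hH h hh y (hWY hy)
      have h6 := Set.ncard_le_ncard h5 Y.toFinite
      omega
    obtain ⟨_, hc, c', hc', rfl⟩ := h2
    obtain ⟨z, hz, h3⟩ := hW w hw _ hc
    obtain ⟨z', hz', rfl⟩ := hW w hw c' hc'
    refine ⟨(h * z' * h⁻¹)⁻¹ * z, Z.mul_mem (Z.inv_mem (hZ h hh z' hz')) hz, ?_⟩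
    rw [mul_smul, h3, inv_smul_eq_iff]
    simp [smul_smul]
  intro a ha b hb
  obtain ⟨z, hz, rfl⟩ := key a ha
  obtain ⟨z', hz', rfl⟩ := key b hb
  exact ⟨z' * z⁻¹, Z.mul_mem hz' (Z.inv_mem hz), by simp [smul_smul]⟩

section
variable {H : Type u} [Group H] {X : Type v} [MulAction H X]

theorem period_eq_ncard [Finite X] (g : H) (a : X) : MulAction.period g a = {b | Sc g a b}.ncard := by
  classical
  have := Fintype.ofFinite (orbit (Subgroup.zpowers g) a)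
  rw [MulAction.period_eq_minimalPeriod, MulAction.minimalPeriod_eq_card, ← Nat.card_eq_fintype_card,
    Nat.card_coe_set_eq]
  congr 1
  ext b
  rw [Set.mem_ofPred_eq, sc_iff, orbitRel_apply]

theorem zpow_smul_of_period_dvd {g : H} {a b : X} (h : Sc g a b) {k : ℤ} (hk : (MulAction.period g a : ℤ) ∣ k) :
    g ^ k • b = b := by
  obtain ⟨l, rfl⟩ := h
  rw [smul_smul, ← zpow_add, add_comm, zpow_add, mul_smul,
    MulAction.zpow_smul_eq_iff_period_dvd.mpr hk]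

/-- if `g` is transitive, a power fixing a point is trivial -/
theorem zpow_smul_of_fixes {g : H} (h : ∀ a b : X, Sc g a b) {k : ℤ} {a : X} (hk : g ^ k • a = a) (b : X) :
    g ^ k • b = b := by
  obtain ⟨l, rfl⟩ := h a b
  rw [smul_smul, ← zpow_add, add_comm, zpow_add, mul_smul, hk]

end

section
variable {H : Type u} [Group H] {Δ₀ : Type v} {Δ₁ : Type w} [MulAction H Δ₀] [MulAction H Δ₁] [Finite Δ₀] [Finite Δ₁]

/-- The main step of `two_trans`: `a` is in the longer cycle. -/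
theorem two_trans_aux (d : ℕ) (hd : 5 ≤ d) (h0 : Nat.card Δ₀ = d) (h1 : Nat.card Δ₁ = d)
    (hprim : IsPreprimitive H Δ₁) (g : H) (htr0 : ∀ a b : Δ₀, Sc g a b) (a b : Δ₁) (hab : ¬ Sc g a b)
    (hcov : ∀ c : Δ₁, Sc g a c ∨ Sc g b c)
    (hcop' : IsCoprime ({c | Sc g a c}.ncard : ℤ) ((d : ℤ) * ({c | Sc g b c}.ncard : ℤ)))
    (hlt : {c | Sc g b c}.ncard < {c | Sc g a c}.ncard) :
    ∀ a₁ b₁ a₂ b₂ : Δ₁, a₁ ≠ b₁ → a₂ ≠ b₂ → ∃ z : H, (∀ x : Δ₀, z • x = x) ∧ z • a₁ = a₂ ∧ z • b₁ = b₂ := by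
  set U : Set Δ₁ := {c | Sc g a c} with hU
  set V : Set Δ₁ := {c | Sc g b c} with hV
  have hUV : Disjoint U V := by
    rw [Set.disjoint_left]
    intro c hc hc'
    exact hab (Sc.trans hc (Sc.symm hc'))
  have hUVu : U ∪ V = Set.univ := by
    ext c
    simpa [hU, hV] using hcov c
  have hsum : U.ncard + V.ncard = d := by
    rw [← Set.ncard_union_eq hUV, hUVu, Set.ncard_univ, h1]
  have haU : a ∈ U := Sc.refl g a
  have hbV : b ∈ V := Sc.refl g b
  have hVpos : 0 < V.ncard := (Set.ncard_pos).mpr ⟨b, hbV⟩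
  have hpx : ∀ x : Δ₀, MulAction.period g x = d := by
    intro x
    rw [period_eq_ncard, ← h0, ← Set.ncard_univ]
    congr 1
    ext y
    simpa using htr0 x y
  -- powers of `g` trivial on `Δ₀` and `V`, transitive on `U`
  have hC : ∀ a₁ ∈ U, ∀ a₂ ∈ U, ∃ j : ℤ, g ^ j • a₁ = a₂ ∧ (∀ x : Δ₀, g ^ j • x = x) ∧
      ∀ c ∈ V, g ^ j • c = c := by
    intro a₁ h1 a₂ h2
    obtain ⟨i, hi⟩ : Sc g a₁ a₂ := Sc.trans (Sc.symm h1) h2
    obtain ⟨s, t, hst⟩ := hcop'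
    refine ⟨i * (t * (d * V.ncard)), ?_, fun x => ?_, fun c hc => ?_⟩
    · have h3 : i * (t * (d * V.ncard)) = -(i * s) * U.ncard + i := by
        have : i * (t * (d * V.ncard)) = i * (s * U.ncard + t * (d * V.ncard)) - i * s * U.ncard := by ring
        rw [this, hst]
        ring
      rw [h3, zpow_add, mul_smul, hi]
      refine zpow_smul_of_period_dvd (a := a) h2 ?_
      rw [period_eq_ncard]
      exact Dvd.intro_left _ rfl
    · refine zpow_smul_of_period_dvd (a := x) (Sc.refl g x) ?_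
      rw [hpx]
      exact ⟨i * t * V.ncard, by ring⟩
    · refine zpow_smul_of_period_dvd (a := b) hc ?_
      rw [period_eq_ncard]
      exact ⟨i * t * d, by rw [hV]; ring⟩
  -- Jordan
  have h2t : IsMultiplyPretransitive H Δ₁ 2 := by
    obtain ⟨n, hn⟩ : ∃ n, V.ncard = n + 1 := ⟨V.ncard - 1, by omega⟩
    refine hprim.is_two_pretransitive (s := V) (n := n) hn (by omega) ?_
    refine ⟨?_⟩
    rintro ⟨x, hx⟩ ⟨y, hy⟩
    rw [SubMulAction.mem_ofFixingSubgroup_iff] at hx hy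
    have hxU : x ∈ U := (hcov x).resolve_right hx
    have hyU : y ∈ U := (hcov y).resolve_right hy
    obtain ⟨j, hj1, -, hj2⟩ := hC x hxU y hyU
    refine ⟨⟨g ^ j, ?_⟩, ?_⟩
    · rw [mem_fixingSubgroup_iff]
      exact hj2
    · exact Subtype.ext hj1
  rw [is_two_pretransitive_iff] at h2t
  let Z : Subgroup H :=
    { carrier := {z | ∀ x : Δ₀, z • x = x}
      mul_mem' := fun {y z} hy hz x => by rw [mul_smul, hz, hy]
      one_mem' := fun x => one_smul _ x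
      inv_mem' := fun {z} hz x => by rw [inv_smul_eq_iff, hz] }
  have hZ : ∀ z, z ∈ Z ↔ ∀ x : Δ₀, z • x = x := fun z => Iff.rfl
  have hZn : ∀ h : H, ∀ z ∈ Z, h * z * h⁻¹ ∈ Z := by
    intro h z hz x
    rw [mul_smul, mul_smul, hz, smul_inv_smul]
  -- `Z` is transitive
  have htZ : ∀ x ∈ (Set.univ : Set Δ₁), ∀ y ∈ (Set.univ : Set Δ₁), ∃ z ∈ Z, z • x = y := by
    refine trans_of_half (⊤ : Subgroup H) Z (fun h _ => hZn h) Set.univ U (fun _ _ _ _ => trivial) ?_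
      (Set.subset_univ _) ?_ ?_
    · intro x _ y _
      obtain ⟨h, hh⟩ := hprim.toIsPretransitive.exists_smul_eq x y
      exact ⟨h, trivial, hh⟩
    · intro x hx y hy
      obtain ⟨j, hj1, hj2, -⟩ := hC x hx y hy
      exact ⟨g ^ j, hj2, hj1⟩
    · rw [Set.ncard_univ, h1]
      omega
  -- the stabilizer of `b` in `Z` is transitive on the rest
  have htZb : ∀ x ∈ ({b}ᶜ : Set Δ₁), ∀ y ∈ ({b}ᶜ : Set Δ₁), ∃ z ∈ Z ⊓ stabilizer H b, z • x = y := by
    refine trans_of_half (stabilizer H b) (Z ⊓ stabilizer H b) ?_ {b}ᶜ U ?_ ?_ ?_ ?_ ?_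
    · intro h hh z hz
      exact ⟨hZn h z hz.1, Subgroup.mul_mem _ (Subgroup.mul_mem _ hh hz.2) (Subgroup.inv_mem _ hh)⟩
    · intro h hh y hy hy'
      apply hy
      rw [Set.mem_singleton_iff] at hy' ⊢
      rw [mem_stabilizer_iff] at hh
      rw [← hh] at hy'
      exact MulAction.injective h hy'
    · intro x hx y hy
      obtain ⟨h, h3, h4⟩ := h2t (a := b) (b := x) (c := b) (d := y) (fun h => hx h.symm) (fun h => hy h.symm)
      exact ⟨h, h3, h4⟩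
    · intro x hx hx'
      rw [Set.mem_singleton_iff] at hx'
      rw [hx'] at hx
      exact hab hx
    · intro x hx y hy
      obtain ⟨j, hj1, hj2, hj3⟩ := hC x hx y hy
      exact ⟨g ^ j, ⟨hj2, hj3 b hbV⟩, hj1⟩
    · rw [Set.ncard_compl, Set.ncard_singleton, h1]
      omega
  intro a₁ b₁ a₂ b₂ hab₁ hab₂
  obtain ⟨z₁, hz₁, e₁⟩ := htZ a₁ trivial b trivial
  obtain ⟨z₂, hz₂, e₂⟩ := htZ a₂ trivial b trivial
  obtain ⟨z₃, hz₃, e₃⟩ := htZb (z₁ • b₁)
    (fun h => hab₁ (MulAction.injective z₁ (e₁.trans (Set.mem_singleton_iff.mp h).symm)))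
    (z₂ • b₂) (fun h => hab₂ (MulAction.injective z₂ (e₂.trans (Set.mem_singleton_iff.mp h).symm)))
  refine ⟨z₂⁻¹ * z₃ * z₁, ?_, ?_, ?_⟩
  · exact (hZ _).mp (Z.mul_mem (Z.mul_mem (Z.inv_mem hz₂) hz₃.1) hz₁)
  · rw [mul_smul, mul_smul, e₁, show z₃ • b = b from hz₃.2, inv_smul_eq_iff, e₂]
  · rw [mul_smul, mul_smul, e₃, inv_smul_smul]

theorem two_trans (d : ℕ) (hd : 5 ≤ d) (h0 : Nat.card Δ₀ = d) (h1 : Nat.card Δ₁ = d)
    (hprim : IsPreprimitive H Δ₁) (g : H) (htr0 : ∀ a b : Δ₀, Sc g a b) (a b : Δ₁) (hab : ¬ Sc g a b)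
    (htwo : ∀ p q r : Δ₀ × Δ₁, Sc g p q ∨ Sc g p r ∨ Sc g q r) :
    ∀ a₁ b₁ a₂ b₂ : Δ₁, a₁ ≠ b₁ → a₂ ≠ b₂ → ∃ z : H, (∀ x : Δ₀, z • x = x) ∧ z • a₁ = a₂ ∧ z • b₁ = b₂ := by
  have hne : Nonempty Δ₀ := by
    rw [← not_isEmpty_iff]
    intro h
    rw [Nat.card_of_isEmpty] at h0
    omega
  obtain ⟨x₀⟩ := hne
  have hcov : ∀ c : Δ₁, Sc g a c ∨ Sc g b c := by
    intro c
    rcases htwo (x₀, a) (x₀, b) (x₀, c) with ⟨k, hk⟩ | ⟨k, hk⟩ | ⟨k, hk⟩
    · exact absurd ⟨k, congrArg Prod.snd hk⟩ hab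
    · exact Or.inl ⟨k, congrArg Prod.snd hk⟩
    · exact Or.inr ⟨k, congrArg Prod.snd hk⟩
  -- transitivity of the powers trivial on `Δ₀`
  have hCa : ∀ a b : Δ₁, ¬ Sc g a b → ∀ a₁ a₂ : Δ₁, Sc g a a₁ → Sc g a a₂ →
      ∃ j : ℤ, g ^ j • a₁ = a₂ ∧ ∀ x : Δ₀, g ^ j • x = x := by
    intro a b hab a₁ a₂ h1 h2
    rcases htwo (x₀, a₁) (x₀, a₂) (x₀, b) with ⟨k, hk⟩ | ⟨k, hk⟩ | ⟨k, hk⟩
    · exact ⟨k, congrArg Prod.snd hk, zpow_smul_of_fixes htr0 (congrArg Prod.fst hk)⟩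
    · exact absurd (Sc.trans h1 ⟨k, congrArg Prod.snd hk⟩) hab
    · exact absurd (Sc.trans h2 ⟨k, congrArg Prod.snd hk⟩) hab
  have hpx : ∀ x : Δ₀, MulAction.period g x = d := by
    intro x
    rw [period_eq_ncard, ← h0, ← Set.ncard_univ]
    congr 1
    ext y
    simpa using htr0 x y
  have hcop : ∀ a b : Δ₁, ¬ Sc g a b → IsCoprime ({c | Sc g a c}.ncard : ℤ) (d : ℤ) := by
    intro a b hab
    obtain ⟨j, hj1, hj2⟩ := hCa a b hab a (g • a) (Sc.refl g a) ⟨1, by simp⟩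
    have h3 : (d : ℤ) ∣ j := by
      rw [← hpx x₀, ← MulAction.zpow_smul_eq_iff_period_dvd]
      exact hj2 x₀
    have h4 : (({c | Sc g a c}.ncard : ℕ) : ℤ) ∣ 1 - j := by
      rw [← period_eq_ncard, ← MulAction.zpow_smul_eq_iff_period_dvd, sub_eq_neg_add, zpow_add, mul_smul, zpow_one,
        ← hj1, smul_smul, ← zpow_add]
      simp
    obtain ⟨x, hx⟩ := h3
    obtain ⟨y, hy⟩ := h4
    exact ⟨y, x, by linarith⟩
  have hba : ¬ Sc g b a := fun h => hab h.symm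
  have hUV : Disjoint {c | Sc g a c} {c | Sc g b c} := by
    rw [Set.disjoint_left]
    intro c hc hc'
    exact hab (Sc.trans hc (Sc.symm hc'))
  have hUVu : {c | Sc g a c} ∪ {c | Sc g b c} = Set.univ := by
    ext c
    simpa using hcov c
  have hsum : {c | Sc g a c}.ncard + {c | Sc g b c}.ncard = d := by
    rw [← Set.ncard_union_eq hUV, hUVu, Set.ncard_univ, h1]
  have hcop2 : IsCoprime ({c | Sc g a c}.ncard : ℤ) ({c | Sc g b c}.ncard : ℤ) := by
    obtain ⟨s, t, hst⟩ := hcop a b hab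
    refine ⟨s + t, t, ?_⟩
    rw [← hst, ← hsum]
    push_cast
    ring
  rcases lt_trichotomy {c | Sc g b c}.ncard {c | Sc g a c}.ncard with hlt | heq | hlt
  · exact two_trans_aux d hd h0 h1 hprim g htr0 a b hab hcov
      ((hcop a b hab).mul_right hcop2) hlt
  · exfalso
    rw [heq] at hcop2 hsum
    have h3 := (Int.isCoprime_iff_gcd_eq_one.mp hcop2)
    rw [Int.gcd_self, Int.natAbs_natCast] at h3
    omega
  · exact two_trans_aux d hd h0 h1 hprim g htr0 b a hba (fun c => (hcov c).symm)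
      ((hcop b a hba).mul_right hcop2.symm) hlt

end

end Cfsg.Agent.H989.Cyc
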